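import Mathlib.CategoryTheory.Abelian.Injective.Ext
import Mathlib.CategoryTheory.Abelian.RightDerived
import Mathlib.CategoryTheory.Preadditive.Yoneda.Limits
import Mathlib.Algebra.Homology.ShortComplex.Ab
import Mathlib.Algebra.Category.Grp.Abelian

/-!
# The right derived functors of `Hom(G, -)` are the Ext groups
-/

universe v u

open CategoryTheory Limits Abelian Opposite

noncomputable section

namespace Groth.Agent.SpSeqLib

variable {A : Type u} [Category.{v} A] [Abelian A] [HasExt.{v} A] (G : A) {X : A}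
  (R : InjectiveResolution X)

/-- `Hom(G, -)` applied to an injective resolution. -/
abbrev homCx : CochainComplex AddCommGrpCat.{v} ℕ :=
  ((preadditiveCoyoneda.obj (op G)).mapHomologicalComplex _).obj R.cocomplex

/-- The morphism underlying a cocycle of `Hom(G, R)`. -/
abbrev homCycle (n : ℕ) (z : (homCx G R).cycles n) : G ⟶ R.cocomplex.X n :=
  (homCx G R).iCycles n z

theorem homCycle_d (n m : ℕ) (z : (homCx G R).cycles n) :
    homCycle G R n z ≫ R.cocomplex.d n m = 0 :=
  (ConcreteCategory.congr_hom ((homCx G R).iCycles_d n m) z)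

/-- The class of a cocycle. -/
def homClass (n : ℕ) : (homCx G R).cycles n ⟶ AddCommGrpCat.of (Ext G X n) :=
  AddCommGrpCat.ofHom (AddMonoidHom.mk'
    (fun z => R.extMk (homCycle G R n z) (n + 1) rfl (homCycle_d G R n (n + 1) z))
    fun a b => by
      refine Eq.trans ?_ (R.add_extMk _ _ _ _ _ _).symm
      congr 1
      exact map_add ((homCx G R).iCycles n).hom a b)

theorem homClass_surjective (n : ℕ) (x : Ext G X n) : ∃ z, homClass G R n z = x := by
  obtain ⟨f, hf, rfl⟩ := R.extMk_surjective x (n + 1) rfl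
  obtain ⟨z, hz⟩ := (ShortComplex.ab_exact_iff _).1 (ShortComplex.exact_of_f_is_kernel
    (ShortComplex.mk _ _ ((homCx G R).iCycles_d n (n + 1)))
    ((homCx G R).cyclesIsKernel n (n + 1) (CochainComplex.next ℕ n))) f hf
  refine ⟨z, ?_⟩
  show R.extMk (homCycle G R n z) (n + 1) rfl (homCycle_d G R n (n + 1) z) = _
  congr 1

theorem eq_zero_of_extMk_zero (f : G ⟶ R.cocomplex.X 0) (hf : f ≫ R.cocomplex.d 0 1 = 0)
    (h : R.extMk f 1 rfl hf = 0) : f = 0 := by
  rw [← R.extEquivCohomologyClass.apply_eq_iff_eq, InjectiveResolution.extEquivCohomologyClass_extMk,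
    InjectiveResolution.extEquivCohomologyClass_zero,
    CochainComplex.HomComplex.CohomologyClass.mk_eq_zero_iff,
    CochainComplex.HomComplex.Cocycle.fromSingleMk_mem_coboundaries_iff _ _ _ _ _ (-1 : ℤ) (by simp)] at h
  obtain ⟨g, hg⟩ := h
  have hz : IsZero (R.cochainComplex.X (-1)) :=
    CochainComplex.isZero_of_isStrictlyGE R.cochainComplex 0 (-1) (by lia)
  rw [hz.eq_of_tgt g 0, zero_comp] at hg
  rw [← cancel_mono (R.cochainComplexXIso 0 0 rfl).inv, zero_comp]
  exact hg.symm

theorem homClass_eq_zero_iff (n : ℕ) (z : (homCx G R).cycles n) :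
    homClass G R n z = 0 ↔ ∃ s, (homCx G R).toCycles ((ComplexShape.up ℕ).prev n) n s = z := by
  have hinj : Function.Injective (homCycle G R n) :=
    (AddCommGrpCat.mono_iff_injective ((homCx G R).iCycles n)).1 inferInstance
  have hd : ∀ s, homCycle G R n ((homCx G R).toCycles ((ComplexShape.up ℕ).prev n) n s) =
      (show G ⟶ R.cocomplex.X _ from s) ≫ R.cocomplex.d ((ComplexShape.up ℕ).prev n) n := fun s =>
    ConcreteCategory.congr_hom ((homCx G R).toCycles_i ((ComplexShape.up ℕ).prev n) n) s
  constructor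
  · intro h
    rcases n with _ | p
    · refine ⟨0, hinj ?_⟩
      rw [map_zero]
      exact ((map_zero ((homCx G R).iCycles 0).hom)).trans
        (eq_zero_of_extMk_zero G R _ (homCycle_d G R 0 1 z) h).symm
    · obtain ⟨g, hg⟩ := (R.extMk_eq_zero_iff _ (p + 1 + 1) rfl
        (homCycle_d G R (p + 1) (p + 1 + 1) z) p rfl).1 h
      rw [CochainComplex.prev_nat_succ] at hd ⊢
      exact ⟨g, hinj ((hd g).trans hg)⟩
  · rintro ⟨s, rfl⟩
    show R.extMk _ (n + 1) rfl (homCycle_d G R n (n + 1) _) = 0
    rcases n with _ | p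
    · refine Eq.trans ?_ (R.extMk_zero (X := G) 1 rfl)
      congr 1
      rw [hd, R.cocomplex.shape _ _ (by simp), comp_zero]
    · refine (R.extMk_eq_zero_iff _ (p + 1 + 1) rfl (homCycle_d G R (p + 1) (p + 1 + 1) _) p rfl).2 ?_
      revert s
      rw [CochainComplex.prev_nat_succ] at hd ⊢
      exact fun s => ⟨s, (hd s).symm⟩

theorem exists_homology_homCx_iso (n : ℕ) :
    ∃ e : (homCx G R).homology n ≅ AddCommGrpCat.of (Ext G X n),
      (homCx G R).homologyπ n ≫ e.hom = homClass G R n := by
  have hw : (homCx G R).toCycles ((ComplexShape.up ℕ).prev n) n ≫ homClass G R n = 0 := by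
    ext s
    exact (homClass_eq_zero_iff G R n _).2 ⟨s, rfl⟩
  haveI : Epi (homClass G R n) :=
    (AddCommGrpCat.epi_iff_surjective _).2 (homClass_surjective G R n)
  have hex : (ShortComplex.mk _ _ hw).Exact :=
    (ShortComplex.ab_exact_iff _).2 fun z hz => (homClass_eq_zero_iff G R n z).1 hz
  exact ⟨IsColimit.coconePointUniqueUpToIso ((homCx G R).homologyIsCokernel _ n rfl)
    hex.gIsCokernel, IsColimit.comp_coconePointUniqueUpToIso_hom
      ((homCx G R).homologyIsCokernel _ n rfl) _ WalkingParallelPair.one⟩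

/-- The cohomology of `Hom(G, R)` is `Ext(G, X)`. -/
theorem nonempty_homology_homCx_iso (n : ℕ) :
    Nonempty ((homCx G R).homology n ≅ AddCommGrpCat.of (Ext G X n)) :=
  ⟨(exists_homology_homCx_iso G R n).choose⟩

theorem homClass_naturality {X' : A} {R' : InjectiveResolution X'} {g : X ⟶ X'}
    (φ : InjectiveResolution.Hom R R' g) (n : ℕ) :
    homClass G R n ≫ (Abelian.extFunctorObj G n).map g =
      HomologicalComplex.cyclesMap
        (((preadditiveCoyoneda.obj (op G)).mapHomologicalComplex _).map φ.hom) n ≫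
        homClass G R' n := by
  ext z
  refine (InjectiveResolution.extMk_comp_mk₀ (homCycle G R n z) (n + 1) rfl
    (homCycle_d G R n (n + 1) z) φ).trans ?_
  show _ = R'.extMk (homCycle G R' n _) (n + 1) rfl (homCycle_d G R' n (n + 1) _)
  congr 1
  exact (ConcreteCategory.congr_hom (HomologicalComplex.cyclesMap_i
    (((preadditiveCoyoneda.obj (op G)).mapHomologicalComplex _).map φ.hom) n) z).symm

variable [HasInjectiveResolutions A]

/-- `R^n Hom(G, -) = Ext^n(G, -)` on objects. -/
theorem nonempty_rightDerived_coyoneda_iso (X : A) (n : ℕ) :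
    Nonempty (((preadditiveCoyoneda.obj (op G)).rightDerived n).obj X ≅
      AddCommGrpCat.of (Ext G X n)) :=
  ⟨(injectiveResolution X).isoRightDerivedObj _ n ≪≫
    (nonempty_homology_homCx_iso G (injectiveResolution X) n).some⟩

/-- `R^n Hom(G, -) = Ext^n(G, -)`, naturally. -/
theorem nonempty_rightDerived_coyoneda_natIso (n : ℕ) :
    Nonempty ((preadditiveCoyoneda.obj (op G)).rightDerived n ≅ Abelian.extFunctorObj G n) := by
  let F := preadditiveCoyoneda.obj (op G)
  let e := fun X : A => (exists_homology_homCx_iso G (injectiveResolution X) n).choose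
  have he : ∀ X : A, (homCx G (injectiveResolution X)).homologyπ n ≫ (e X).hom =
      homClass G (injectiveResolution X) n :=
    fun X => (exists_homology_homCx_iso G (injectiveResolution X) n).choose_spec
  refine ⟨NatIso.ofComponents
    (fun X => (injectiveResolution X).isoRightDerivedObj F n ≪≫ e X) fun {X Y} g => ?_⟩
  let φ : InjectiveResolution.Hom (injectiveResolution X) (injectiveResolution Y) g :=
    { hom := InjectiveResolution.desc g (injectiveResolution Y) (injectiveResolution X)
      ι_f_zero_comp_hom_f_zero := (InjectiveResolution.desc_commutes_zero g _ _).trans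
        (congrArg (· ≫ (injectiveResolution Y).ι.f 0)
          (HomologicalComplex.single_map_f_self (ComplexShape.up ℕ) 0 g |>.trans (by simp)).symm) }
  refine ((Category.assoc _ _ _).symm.trans (congrArg (· ≫ (e Y).hom)
    (InjectiveResolution.isoRightDerivedObj_hom_naturality g _ _ φ.hom (InjectiveResolution.desc_commutes_zero g _ _) F n))).trans
      ((Category.assoc _ _ _).trans (Eq.trans ?_ (Category.assoc _ _ _).symm))
  refine congrArg (((injectiveResolution X).isoRightDerivedObj F n).hom ≫ ·) ?_
  refine (cancel_epi ((homCx G (injectiveResolution X)).homologyπ n)).1 ?_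
  refine (Category.assoc _ _ _).symm.trans ((congrArg (· ≫ (e Y).hom)
    (HomologicalComplex.homologyπ_naturality _ n)).trans ((Category.assoc _ _ _).trans ?_))
  refine ((congrArg (_ ≫ ·) (he Y)).trans (homClass_naturality G _ φ n).symm).trans ?_
  exact (congrArg (· ≫ _) (he X).symm).trans (Category.assoc _ _ _)

/-- The same for any functor isomorphic to `Hom(G, -)`. -/
theorem nonempty_rightDerived_iso_ext {S : A ⥤ AddCommGrpCat.{v}} [S.Additive]
    (e : S ≅ preadditiveCoyoneda.obj (op G)) (X : A) (n : ℕ) :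
    Nonempty ((S.rightDerived n).obj X ≅ AddCommGrpCat.of (Ext G X n)) :=
  ⟨(injectiveResolution X).isoRightDerivedObj S n ≪≫
    (HomologicalComplex.homologyFunctor _ _ n).mapIso
      ((NatIso.mapHomologicalComplex e (ComplexShape.up ℕ)).app _) ≪≫
    (nonempty_homology_homCx_iso G (injectiveResolution X) n).some⟩

end Groth.Agent.SpSeqLib
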