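import Groth.Agent.SpSeqLib.RightDerived
import Mathlib

/-!
# Complexes of acyclic objects compute right derived functors
-/

set_option linter.style.haveILetI false

universe v v' u u'

open CategoryTheory Limits Pretriangulated

noncomputable section

namespace Groth.Agent.SpSeqLib

variable {A : Type u} [Category.{v} A] [Abelian A] [EnoughInjectives A]
  {B : Type u'} [Category.{v'} B] [Abelian B] (S : A ⥤ B) [S.Additive]

/-- The higher derived functors of `S` vanish on `X`. -/
def IsAcyclicFor (X : A) : Prop := ∀ p : ℕ, IsZero ((S.rightDerived (p + 1)).obj X)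

theorem isAcyclicFor_of_injective (X : A) [Injective X] : IsAcyclicFor S X :=
  fun p => S.isZero_rightDerived_obj_injective_succ p X

theorem isAcyclicFor_of_isZero {X : A} (h : IsZero X) : IsAcyclicFor S X :=
  haveI := h.injective
  isAcyclicFor_of_injective S X

attribute [local instance] HasDerivedCategory.standard

theorem isAcyclicFor_of_biprod {X X₁ X₂ : A} (i₁ : X₁ ⟶ X) (i₂ : X₂ ⟶ X) (p₁ : X ⟶ X₁)
    (p₂ : X ⟶ X₂) (h : p₁ ≫ i₁ + p₂ ≫ i₂ = 𝟙 X) (h₁ : IsAcyclicFor S X₁) (h₂ : IsAcyclicFor S X₂) :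
    IsAcyclicFor S X := by
  intro p
  let Φ : A ⥤ B := DerivedCategory.Plus.singleFunctor A 0 ⋙ (rG S).shift ((p + 1 : ℕ) : ℤ)
  haveI : Φ.Additive := inferInstance
  have hΦ : ∀ Y : A, IsAcyclicFor S Y → IsZero (Φ.obj Y) := fun Y hY =>
    (hY p).of_iso (nonempty_rG_single_iso S Y (p + 1)).some
  refine IsZero.of_iso ?_ (nonempty_rG_single_iso S X (p + 1)).some.symm
  show IsZero (Φ.obj X)
  rw [IsZero.iff_id_eq_zero, ← Φ.map_id, ← h, Functor.map_add,
    Functor.map_comp, Functor.map_comp, (hΦ _ h₁).eq_of_tgt (Φ.map p₁) 0,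
    (hΦ _ h₂).eq_of_tgt (Φ.map p₂) 0, zero_comp, zero_comp, add_zero]

theorem isAcyclicFor_quotient {T₀ : ShortComplex A} (hT₀ : T₀.ShortExact)
    (h₂ : IsAcyclicFor S T₀.X₂) (h₁ : IsAcyclicFor S T₀.X₁) : IsAcyclicFor S T₀.X₃ := by
  intro p
  let T : Triangle (DerivedCategory.Plus A) := Triangle.mk
    ((DerivedCategory.Plus.singleFunctor A 0).map T₀.f)
    ((DerivedCategory.Plus.singleFunctor A 0).map T₀.g)
    (ObjectProperty.homMk (hT₀.singleδ ≫ ((DerivedCategory.Plus.ι (C := A)).commShiftIso (1 : ℤ)).inv.app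
      ((DerivedCategory.Plus.singleFunctor A 0).obj T₀.X₁)))
  have hT : T ∈ distTriang (DerivedCategory.Plus A) := by
    rw [← (DerivedCategory.Plus.ι (C := A)).map_distinguished_iff]
    refine isomorphic_distinguished _ hT₀.singleTriangle_distinguished _
      (Triangle.isoMk _ _ (Iso.refl _) (Iso.refl _) (Iso.refl _)
        ((Category.comp_id _).trans (Category.id_comp _).symm)
        ((Category.comp_id _).trans (Category.id_comp _).symm) ?_)
    refine ((congrArg (_ ≫ ·) ((shiftFunctor (DerivedCategory A) (1 : ℤ)).map_id _)).trans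
      (Category.comp_id _)).trans (Eq.trans ?_ (Category.id_comp _).symm)
    exact (Category.assoc _ _ _).trans ((congrArg (hT₀.singleδ ≫ ·)
      (((DerivedCategory.Plus.ι (C := A)).commShiftIso (1 : ℤ)).inv_hom_id_app
        ((DerivedCategory.Plus.singleFunctor A 0).obj T₀.X₁))).trans (Category.comp_id _))
  obtain ⟨e₂⟩ := nonempty_rG_single_iso S T₀.X₂ (p + 1)
  obtain ⟨e₁⟩ := nonempty_rG_single_iso S T₀.X₁ (p + 1 + 1)
  obtain ⟨e₃⟩ := nonempty_rG_single_iso S T₀.X₃ (p + 1)
  refine IsZero.of_iso ?_ e₃.symm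
  exact ((rG S).homologySequence_exact₃ T hT ((p + 1 : ℕ) : ℤ) ((p + 1 + 1 : ℕ) : ℤ)
    (by push_cast; rfl)).isZero_of_both_zeros
      (((h₂ p).of_iso e₂).eq_of_src _ _) (((h₁ (p + 1)).of_iso e₁).eq_of_tgt _ _)

variable [PreservesFiniteLimits S]

theorem epi_map_of_isZero_rightDerived_one {T₀ : ShortComplex A} (hT₀ : T₀.ShortExact)
    (h : IsZero ((S.rightDerived 1).obj T₀.X₁)) : Epi (S.map T₀.g) := by
  haveI := hT₀.mono_f
  haveI := hT₀.epi_g
  let R := InjectiveResolution.of T₀.X₁
  let d := R.cocomplex.d 0 1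
  let d' := R.cocomplex.d 1 2
  have w : d ≫ d' = 0 := R.cocomplex.d_comp_d _ _ _
  let π : R.cocomplex.X 0 ⟶ kernel d' := kernel.lift d' d w
  haveI : Epi π := (R.exact_succ 0).epi_kernelLift
  let j : T₀.X₁ ⟶ R.cocomplex.X 0 := R.ι.f 0
  haveI : Mono j := inferInstanceAs (Mono (R.ι.f 0))
  have hj : j ≫ π = 0 := by
    rw [← cancel_mono (kernel.ι d'), Category.assoc, kernel.lift_ι, zero_comp]
    exact R.ι_f_zero_comp_complex_d
  have hjex : (ShortComplex.mk j π hj).Exact := by
    rw [ShortComplex.exact_iff_exact_up_to_refinements]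
    intro W x hx
    have hx' : x ≫ d = 0 := by
      rw [← kernel.lift_ι d' d w, ← Category.assoc]
      exact (congrArg (· ≫ kernel.ι d') hx).trans zero_comp
    exact R.exact₀.exact_up_to_refinements x hx'
  -- the image of `π` by `S` is an epimorphism
  haveI hSπ : Epi (S.map π) := by
    have hex : (ShortComplex.mk (S.map d) (S.map d')
        (by rw [← S.map_comp, w, S.map_zero])).Exact := by
      have h0 := h.of_iso (R.isoRightDerivedObj S 1).symm
      change IsZero (((S.mapHomologicalComplex _).obj R.cocomplex).homology 1) at h0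
      rw [← HomologicalComplex.exactAt_iff_isZero_homology,
        HomologicalComplex.exactAt_iff' _ 0 1 2 (by simp) (by simp)] at h0
      exact h0
    haveI := hex.epi_kernelLift
    have e : S.map π ≫ kernelComparison d' S = kernel.lift (S.map d') (S.map d)
        (by rw [← S.map_comp, w, S.map_zero]) := map_lift_kernelComparison d' S w
    haveI : Epi (S.map π ≫ kernelComparison d' S) := by rw [e]; infer_instance
    have e' : S.map π = (S.map π ≫ kernelComparison d' S) ≫ inv (kernelComparison d' S) := by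
      rw [Category.assoc, IsIso.hom_inv_id, Category.comp_id]
    rw [e']
    exact epi_comp _ _
  -- comparison with the pullback
  let φ : T₀.X₂ ⟶ R.cocomplex.X 0 := Injective.factorThru j T₀.f
  have hφ : T₀.f ≫ φ = j := Injective.comp_factorThru _ _
  have h0 : T₀.f ≫ φ ≫ π = 0 := by rw [← Category.assoc, hφ, hj]
  let ψ : T₀.X₃ ⟶ kernel d' := hT₀.exact.desc (φ ≫ π) h0
  have hψ : T₀.g ≫ ψ = φ ≫ π := hT₀.exact.g_desc _ h0
  have sq : CommSq φ T₀.g π ψ := ⟨hψ.symm⟩
  haveI : Mono (pullback.lift φ T₀.g sq.w) := by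
    rw [Preadditive.mono_iff_cancel_zero]
    intro W x hx
    have hxg : x ≫ T₀.g = 0 := by
      rw [← pullback.lift_snd φ T₀.g sq.w, ← Category.assoc, hx, zero_comp]
    have hxφ : x ≫ φ = 0 := by
      rw [← pullback.lift_fst φ T₀.g sq.w, ← Category.assoc, hx, zero_comp]
    rw [← hT₀.exact.lift_f x hxg]
    have : hT₀.exact.lift x hxg = 0 := by
      rw [← cancel_mono j, zero_comp, ← hφ, ← Category.assoc, hT₀.exact.lift_f, hxφ]
    rw [this, zero_comp]
  haveI : Epi (pullback.lift φ T₀.g sq.w) := by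
    rw [epi_iff_surjective_up_to_refinements]
    intro W y
    obtain ⟨W₁, p₁, _, k, hk⟩ := surjective_up_to_refinements_of_epi T₀.g (y ≫ pullback.snd π ψ)
    have h1 : (p₁ ≫ y ≫ pullback.fst π ψ - k ≫ φ) ≫ π = 0 := by
      rw [Preadditive.sub_comp, sub_eq_zero, Category.assoc k, ← hψ, ← Category.assoc k, ← hk]
      simp only [Category.assoc, pullback.condition]
    obtain ⟨W₂, p₂, _, z, hz⟩ := hjex.exact_up_to_refinements _ h1
    dsimp at z hz
    refine ⟨W₂, p₂ ≫ p₁, epi_comp _ _, z ≫ T₀.f + p₂ ≫ k, pullback.hom_ext ?_ ?_⟩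
    · simp only [Preadditive.add_comp, Category.assoc, pullback.lift_fst, hφ, ← hz,
        Preadditive.comp_sub]
      abel
    · simp only [Preadditive.add_comp, Category.assoc, pullback.lift_snd, ← hk, T₀.zero, comp_zero,
        zero_add]
  haveI : IsIso (pullback.lift φ T₀.g sq.w) := isIso_of_mono_of_epi _
  haveI : Epi (pullback.snd (S.map π) (S.map ψ)) := inferInstance
  rw [show T₀.g = pullback.lift φ T₀.g sq.w ≫ pullback.snd π ψ from (pullback.lift_snd _ _ _).symm,
    S.map_comp, ← pullbackComparison_comp_snd S π ψ]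
  exact epi_comp _ _

/-- A class of objects on whose short exact sequences with injective middle term `S` is exact, stable
under the quotients in such sequences, consists of acyclic objects. -/
theorem isAcyclicFor_of_class (P : A → Prop) (hiso : ∀ {X Y : A}, (X ≅ Y) → P X → P Y)
    (hq : ∀ T : ShortComplex A, T.ShortExact → Injective T.X₂ → P T.X₁ → P T.X₃)
    (he : ∀ T : ShortComplex A, T.ShortExact → Injective T.X₂ → P T.X₁ → Epi (S.map T.g))
    {X : A} (hX : P X) : IsAcyclicFor S X := by
  let R := InjectiveResolution.of X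
  let Z : ℕ → A := fun n => kernel (R.cocomplex.d n (n + 1))
  let l : ∀ n, R.cocomplex.X n ⟶ Z (n + 1) := fun n =>
    kernel.lift (R.cocomplex.d (n + 1) (n + 1 + 1)) (R.cocomplex.d n (n + 1))
      (R.cocomplex.d_comp_d _ _ _)
  have hepi : ∀ n, Epi (l n) := fun n => (R.exact_succ n).epi_kernelLift
  let T : ℕ → ShortComplex A := fun n => ShortComplex.mk (kernel.ι (R.cocomplex.d n (n + 1))) (l n)
    (by rw [← cancel_mono (kernel.ι _), Category.assoc, kernel.lift_ι, kernel.condition, zero_comp])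
  have hT : ∀ n, (T n).ShortExact := fun n =>
    { exact := by
        rw [ShortComplex.exact_iff_exact_up_to_refinements]
        intro W x hx
        dsimp [T] at x hx
        have hx' : x ≫ R.cocomplex.d n (n + 1) = 0 := by
          rw [← kernel.lift_ι (R.cocomplex.d (n + 1) (n + 1 + 1)) (R.cocomplex.d n (n + 1))
            (R.cocomplex.d_comp_d _ _ _), ← Category.assoc]
          exact (congrArg (· ≫ kernel.ι _) hx).trans zero_comp
        exact ⟨W, 𝟙 W, inferInstance, kernel.lift _ x hx', by simp [T]⟩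
      mono_f := inferInstanceAs (Mono (kernel.ι _))
      epi_g := hepi n }
  have hP : ∀ n, P (Z n) := by
    intro n
    induction n with
    | zero =>
      haveI : Mono (ShortComplex.mk (R.ι.f 0) (R.cocomplex.d 0 1) R.ι_f_zero_comp_complex_d).f :=
        inferInstanceAs (Mono (R.ι.f 0))
      exact hiso (IsLimit.conePointUniqueUpToIso R.exact₀.fIsKernel (limit.isLimit _)) hX
    | succ n ih => exact hq (T n) (hT n) (inferInstanceAs (Injective (R.cocomplex.X n))) ih
  intro p
  refine IsZero.of_iso ?_ (R.isoRightDerivedObj S (p + 1))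
  rw [HomologicalComplex.homologyFunctor_obj, ← HomologicalComplex.exactAt_iff_isZero_homology,
    HomologicalComplex.exactAt_iff' _ p (p + 1) (p + 1 + 1) (by simp) (by simp),
    ShortComplex.exact_iff_epi_kernel_lift]
  haveI : Epi (S.map (l p)) := he (T p) (hT p) (inferInstanceAs (Injective (R.cocomplex.X p))) (hP p)
  have e := map_lift_kernelComparison (R.cocomplex.d (p + 1) (p + 1 + 1)) S
    (R.cocomplex.d_comp_d p (p + 1) (p + 1 + 1))
  change Epi (kernel.lift (S.map (R.cocomplex.d (p + 1) (p + 1 + 1)))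
    (S.map (R.cocomplex.d p (p + 1))) _)
  rw [← e]
  exact epi_comp _ _

variable (K : CochainComplex A ℤ) (hK : K.Acyclic) (hac : ∀ n, IsAcyclicFor S (K.X n))

/-- The cycles, with the next differential. -/
theorem shortExact_kernel (hK : K.Acyclic) (n : ℤ) :
    (ShortComplex.mk (kernel.ι (K.d n (n + 1))) (kernel.lift (K.d (n + 1) (n + 1 + 1)) (K.d n (n + 1))
      (K.d_comp_d _ _ _)) (by
        rw [← cancel_mono (kernel.ι _), Category.assoc, kernel.lift_ι, kernel.condition,
          zero_comp])).ShortExact where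
  exact := by
    rw [ShortComplex.exact_iff_exact_up_to_refinements]
    intro W x hx
    dsimp at x hx
    have hx' : x ≫ K.d n (n + 1) = 0 := by
      rw [← kernel.lift_ι (K.d (n + 1) (n + 1 + 1)) (K.d n (n + 1)) (K.d_comp_d _ _ _),
        ← Category.assoc, hx, zero_comp]
    exact ⟨W, 𝟙 W, inferInstance, kernel.lift _ x hx', by simp⟩
  epi_g := ((K.exactAt_iff' n (n + 1) (n + 1 + 1) (by simp) (by simp)).1 (hK (n + 1))).epi_kernelLift

include hK hac in
omit [PreservesFiniteLimits S] in
theorem isAcyclicFor_kernel (n₀ : ℤ) [K.IsStrictlyGE n₀] (k : ℕ) :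
    IsAcyclicFor S (kernel (K.d (n₀ + k - 1) (n₀ + k - 1 + 1))) := by
  induction k with
  | zero =>
    refine isAcyclicFor_of_isZero S (IsZero.of_mono (kernel.ι _) ?_)
    exact CochainComplex.isZero_of_isStrictlyGE K n₀ _ (by lia)
  | succ k ih =>
    have h := isAcyclicFor_quotient S (shortExact_kernel K hK (n₀ + k - 1)) (hac _) ih
    rw [show (n₀ + (k + 1 : ℕ) - 1 : ℤ) = n₀ + k - 1 + 1 by lia]
    exact h

include hK hac in
/-- An acyclic bounded below complex of acyclic objects remains acyclic. -/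
theorem acyclic_map (n₀ : ℤ) [K.IsStrictlyGE n₀] :
    ((S.mapHomologicalComplex (ComplexShape.up ℤ)).obj K).Acyclic := by
  intro n
  obtain hn | hn := lt_or_ge n n₀
  · exact ShortComplex.exact_of_isZero_X₂ _
      (S.map_isZero (CochainComplex.isZero_of_isStrictlyGE K n₀ n hn))
  · obtain ⟨k, hk⟩ := Int.le.dest hn
    obtain ⟨m, rfl⟩ : ∃ m, n = m + 1 := ⟨n - 1, by lia⟩
    rw [HomologicalComplex.exactAt_iff' _ m (m + 1) (m + 1 + 1) (by simp) (by simp),
      ShortComplex.exact_iff_epi_kernel_lift]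
    have hk' := isAcyclicFor_kernel S K hK hac n₀ k
    rw [show (n₀ + k - 1 : ℤ) = m by lia] at hk'
    haveI := epi_map_of_isZero_rightDerived_one S (shortExact_kernel K hK m) (hk' 0)
    have e := map_lift_kernelComparison (K.d (m + 1) (m + 1 + 1)) S (K.d_comp_d m (m + 1) (m + 1 + 1))
    change Epi (kernel.lift (S.map (K.d (m + 1) (m + 1 + 1))) (S.map (K.d m (m + 1))) _)
    rw [← e]
    exact epi_comp _ _

omit [EnoughInjectives A] in
theorem quasiIso_iff_acyclic_mappingCone {C : Type u'} [Category.{v'} C] [Abelian C]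
    {K L : CochainComplex C ℤ} (φ : K ⟶ L) :
    QuasiIso φ ↔ (CochainComplex.mappingCone φ).Acyclic := by
  rw [← HomologicalComplex.mem_quasiIso_iff, ← HomotopyCategory.quotient_map_mem_quasiIso_iff,
    HomotopyCategory.quasiIso_eq_trW_subcategoryAcyclic]
  exact ((HomotopyCategory.subcategoryAcyclic C).trW_iff_of_distinguished _
    (HomotopyCategory.mappingCone_triangleh_distinguished φ)).trans
      (HomotopyCategory.quotient_obj_mem_subcategoryAcyclic_iff_acyclic _)

/-- A quasi-isomorphism between bounded below complexes of acyclic objects is preserved. -/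
theorem quasiIso_map {K L : CochainComplex A ℤ} (φ : K ⟶ L) [QuasiIso φ] (n₀ : ℤ)
    [K.IsStrictlyGE n₀] [L.IsStrictlyGE n₀] (hKac : ∀ n, IsAcyclicFor S (K.X n))
    (hLac : ∀ n, IsAcyclicFor S (L.X n)) :
    QuasiIso ((S.mapHomologicalComplex (ComplexShape.up ℤ)).map φ) := by
  rw [quasiIso_iff_acyclic_mappingCone]
  haveI := CochainComplex.isStrictlyGE_mappingCone φ n₀ n₀ (n₀ - 1)
  refine fun n => HomologicalComplex.ExactAt.of_iso ?_
    (CochainComplex.mappingCone.mapHomologicalComplexIso φ S)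
  refine acyclic_map S _ ((quasiIso_iff_acyclic_mappingCone φ).1 ‹_›) (fun m => ?_) (n₀ - 1) n
  exact isAcyclicFor_of_biprod S ((CochainComplex.mappingCone.inl φ).v (m + 1) m (by lia))
    ((CochainComplex.mappingCone.inr φ).f m) ((CochainComplex.mappingCone.fst φ).1.v m (m + 1) rfl)
    ((CochainComplex.mappingCone.snd φ).v m m (add_zero m))
    (CochainComplex.mappingCone.id_X φ m (m + 1) rfl) (hKac (m + 1)) (hLac m)

end Groth.Agent.SpSeqLib
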