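import Groth.Agent.SpSeqLib.Truncation
import Groth.Agent.SpSeqLib.Acyclic

/-!
# The spectral sequence of a composite functor
-/

set_option linter.style.haveILetI false

universe v₁ v₂ v₃ u₁ u₂ u₃

open CategoryTheory Limits Pretriangulated

noncomputable section

namespace Groth.Agent.SpSeqLib

attribute [local instance] HasDerivedCategory.standard

variable {A : Type u₁} [Category.{v₁} A] [Abelian A] {A' : Type u₂} [Category.{v₂} A'] [Abelian A']
  {B : Type u₃} [Category.{v₃} B] [Abelian B]

theorem enoughInjectives_of_hasInjectiveResolutions [HasInjectiveResolutions A] :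
    EnoughInjectives A :=
  ⟨fun X => ⟨{
      J := (injectiveResolution X).cocomplex.X 0
      injective := inferInstance
      f := (injectiveResolution X).ι.f 0
      mono := (inferInstance : Mono ((injectiveResolution X).ι.f 0)) }⟩⟩

variable [HasInjectiveResolutions A] [EnoughInjectives A'] (T : A ⥤ A') [T.Additive] (S : A' ⥤ B) [S.Additive]

/-- The image of an injective resolution by `T`, in the derived category. -/
abbrev mapResolution {M : A} (R : InjectiveResolution M) : DerivedCategory.Plus A' :=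
  DerivedCategory.Plus.Q.obj
    ⟨(T.mapHomologicalComplex (ComplexShape.up ℤ)).obj R.cochainComplex, 0, inferInstance⟩

omit [EnoughInjectives A'] in
theorem nonempty_homology_mapResolution {M : A} (R : InjectiveResolution M) (q : ℕ) :
    Nonempty ((DerivedCategory.Plus.homologyFunctor A' (q : ℤ)).obj (mapResolution T R) ≅
      (T.rightDerived q).obj M) :=
  ⟨(DerivedCategory.homologyFunctorFactors A' (q : ℤ)).app _ ≪≫
    (HomologicalComplex.homologyFunctor A' _ (q : ℤ)).mapIso
      (mapExtendIso T R.cocomplex ComplexShape.embeddingUpNat) ≪≫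
    ((T.mapHomologicalComplex _).obj R.cocomplex).extendHomologyIso ComplexShape.embeddingUpNat
      (j := q) rfl ≪≫
    (R.isoRightDerivedObj T q).symm⟩

variable [PreservesFiniteLimits S]

theorem nonempty_rG_mapResolution (hT : ∀ Q : A, Injective Q → IsAcyclicFor S (T.obj Q))
    {M : A} (R : InjectiveResolution M) (n : ℕ) :
    Nonempty (((rG S).shift (n : ℤ)).obj (mapResolution T R) ≅ ((T ⋙ S).rightDerived n).obj M) := by
  let K : CochainComplex.Plus A' :=
    ⟨(T.mapHomologicalComplex (ComplexShape.up ℤ)).obj R.cochainComplex, 0, inferInstance⟩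
  haveI : K.obj.IsStrictlyGE 0 :=
    inferInstanceAs (CochainComplex.IsStrictlyGE
      ((T.mapHomologicalComplex (ComplexShape.up ℤ)).obj R.cochainComplex) 0)
  obtain ⟨L, hL, i, hi⟩ := CochainComplex.Plus.exists_quasiIso_injective K 0
  let L' : CochainComplex A' ℤ :=
    ((InjectiveObject.ι A').mapHomologicalComplex (ComplexShape.up ℤ)).obj L.obj
  let i' : (T.mapHomologicalComplex (ComplexShape.up ℤ)).obj R.cochainComplex ⟶ L' := i.hom
  haveI : QuasiIso i' := hi
  haveI : L'.IsStrictlyGE 0 :=
    inferInstanceAs (CochainComplex.IsStrictlyGE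
      (((InjectiveObject.ι A').mapHomologicalComplex (ComplexShape.up ℤ)).obj L.obj) 0)
  haveI := quasiIso_map S i' 0 (fun m => hT _ inferInstance)
    (fun m => haveI : Injective (L'.X m) := (L.obj.X m).property
      isAcyclicFor_of_injective S _)
  have hQ : IsIso (DerivedCategory.Q.map i') :=
    (DerivedCategory.isIso_Q_map_iff_quasiIso _ i').2 inferInstance
  let e : mapResolution T R ≅ injObj L :=
    DerivedCategory.Plus.ι.preimageIso (@asIso _ _ _ _ (DerivedCategory.Q.map i') hQ)
  exact ⟨((rG S).shift (n : ℤ)).mapIso e ≪≫ rGInjIso S L n ≪≫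
    (asIso (HomologicalComplex.homologyMap
      ((S.mapHomologicalComplex (ComplexShape.up ℤ)).map i') (n : ℤ))).symm ≪≫
    (HomologicalComplex.homologyFunctor B _ (n : ℤ)).mapIso
      (mapExtendIso (T ⋙ S) R.cocomplex ComplexShape.embeddingUpNat) ≪≫
    (((T ⋙ S).mapHomologicalComplex _).obj R.cocomplex).extendHomologyIso
      ComplexShape.embeddingUpNat (j := n) rfl ≪≫
    (R.isoRightDerivedObj (T ⋙ S) n).symm⟩

omit [EnoughInjectives A'] in
theorem isGE_mapResolution {M : A} (R : InjectiveResolution M) :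
    DerivedCategory.Plus.TStructure.t.IsGE (mapResolution T R) 0 := by
  refine (DerivedCategory.Plus.isGE_ι_obj_iff _ _).1 ?_
  exact inferInstanceAs ((DerivedCategory.Q.obj
    ((T.mapHomologicalComplex (ComplexShape.up ℤ)).obj R.cochainComplex)).IsGE 0)

omit [EnoughInjectives A'] [PreservesFiniteLimits S] in
theorem vanishesBelow_rG [EnoughInjectives A'] :
    VanishesBelow (DerivedCategory.Plus.TStructure.t (C := A')) (rG S) :=
  fun Z m n hZ h => haveI : Z.IsGE m := hZ; isZero_rG_of_isGE S Z m n h

omit [EnoughInjectives A'] in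
theorem vanishesBelow_homology :
    VanishesBelow (DerivedCategory.Plus.TStructure.t (C := A'))
      (DerivedCategory.Plus.homologyFunctor A' 0) :=
  fun Z m n hZ h => haveI : Z.IsGE m := hZ; Z.isZero_homology_of_isGE m n h

omit [EnoughInjectives A'] in
theorem vanishesAbove_homology :
    VanishesAbove (DerivedCategory.Plus.TStructure.t (C := A'))
      (DerivedCategory.Plus.homologyFunctor A' 0) :=
  fun Z m n hZ h => haveI : Z.IsLE m := hZ; Z.isZero_homology_of_isLE m n h

omit [EnoughInjectives A'] in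
/-- The truncation in a single degree is the cohomology object. -/
theorem nonempty_omegaSucc_iso (X : DerivedCategory.Plus A') (q : ℤ) :
    Nonempty (omegaSucc DerivedCategory.Plus.TStructure.t X q ≅
      (DerivedCategory.Plus.singleFunctor A' q).obj
        ((DerivedCategory.Plus.homologyFunctor A' q).obj X)) := by
  let Z := omegaSucc DerivedCategory.Plus.TStructure.t X q
  haveI : Z.IsGE q := isGE_omegaSucc X q
  haveI : Z.IsLE q := isLE_omegaSucc X q
  obtain ⟨Y, ⟨e⟩⟩ :=
    DerivedCategory.exists_iso_singleFunctor_obj_of_isGE_of_isLE (DerivedCategory.Plus.ι.obj Z) q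
  obtain ⟨i⟩ := nonempty_shift_omegaSucc_iso (vanishesBelow_homology (A' := A'))
    (vanishesAbove_homology (A' := A')) X q
  let eY : Y ≅ (DerivedCategory.Plus.homologyFunctor A' q).obj X :=
    ((DerivedCategory.singleFunctorCompHomologyFunctorIso A' q).app Y).symm ≪≫
      (DerivedCategory.homologyFunctor A' q).mapIso e.symm ≪≫ i
  exact ⟨DerivedCategory.Plus.ι.preimageIso (e ≪≫
    (DerivedCategory.singleFunctor A' q).mapIso eY)⟩

/-- The spectral sequence of a composite functor. -/
theorem exists_grothendieck (hT : ∀ Q : A, Injective Q → IsAcyclicFor S (T.obj Q))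
    (M : A) {H : ℤ → B} {P : ℤ → ℤ → B}
    (eH : ∀ n : ℕ, Nonempty (((T ⋙ S).rightDerived n).obj M ≅ H n))
    (zH : ∀ n : ℤ, n < 0 → IsZero (H n))
    (eP : ∀ p q : ℕ, Nonempty ((S.rightDerived p).obj ((T.rightDerived q).obj M) ≅ P p q))
    (zP : ∀ p q : ℤ, p < 0 ∨ q < 0 → IsZero (P p q)) :
    ∃ (E : E₂CohomologicalSpectralSequence B) (a : SpSeq.Abutment E H),
      (∀ n, a.IsFinite n) ∧ SpSeq.IsBounded E ∧
      ∀ p q : ℤ, Nonempty ((E.page 2 le_rfl).X (p, q) ≅ P p q) := by
  let R := injectiveResolution M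
  let X := mapResolution T R
  haveI hX := isGE_mapResolution T R
  haveI : X.IsGE 0 := hX
  refine exists_truncSpectralSequence (vanishesBelow_rG S) X (fun n => ?_) P (fun p q => ?_)
  · obtain hn | hn := lt_or_ge n 0
    · exact ⟨(isZero_rG_of_isGE S X 0 n hn).iso (zH n hn)⟩
    · obtain ⟨k, rfl⟩ := Int.eq_ofNat_of_zero_le hn
      exact ⟨(nonempty_rG_mapResolution T S hT R k).some ≪≫ (eH k).some⟩
  · obtain ⟨i⟩ := nonempty_omegaSucc_iso X q
    obtain ⟨j⟩ := nonempty_rG_singleShift_iso S
      ((DerivedCategory.Plus.homologyFunctor A' q).obj X) q p (p + q) rfl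
    let e₀ := ((rG S).shift (p + q)).mapIso i ≪≫ j
    obtain hp | hp := lt_or_ge p 0
    · exact ⟨((isZero_rG_single_of_neg S _ p hp).of_iso e₀).iso (zP p q (Or.inl hp))⟩
    obtain hq | hq := lt_or_ge q 0
    · exact ⟨((((rG S).shift p).map_isZero ((DerivedCategory.Plus.singleFunctor A' 0).map_isZero
        (X.isZero_homology_of_isGE 0 q hq))).of_iso e₀).iso (zP p q (Or.inr hq))⟩
    obtain ⟨a, rfl⟩ := Int.eq_ofNat_of_zero_le hp
    obtain ⟨b, rfl⟩ := Int.eq_ofNat_of_zero_le hq
    exact ⟨e₀ ≪≫ (nonempty_rG_single_iso S _ a).some ≪≫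
      (S.rightDerived a).mapIso (nonempty_homology_mapResolution T R b).some ≪≫ (eP a b).some⟩

end Groth.Agent.SpSeqLib
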