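import Groth.Agent.SiteBase.Rpush
import Groth.Agent.SiteBase.SieveCoh
import Groth.Agent.SpSeqLib.ExtDerived
import Groth.Agent.SpSeqLib.Grothendieck

/-!
# Derived functors of the sections of abelian sheaves, and Leray spectral sequences on sites
-/

universe u

open CategoryTheory Limits Opposite Abelian

noncomputable section

namespace Groth.Agent.SpSeqLib

open SiteBase

variable {C : Type u} [SmallCategory C] {J : GrothendieckTopology C}

theorem additive_secAt (U : C) : (evA J (op U)).Additive := evA_additive J (op U)

attribute [local instance] additive_secAt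

/-- The derived functors of the sections at `U` are the cohomology groups at `U`. -/
theorem nonempty_rightDerived_evA_iso (F : Sheaf J AddCommGrpCat.{u}) (U : C) (n : ℕ) :
    Nonempty (((evA J (op U)).rightDerived n).obj F ≅ AddCommGrpCat.of (CohSite.HU F n U)) :=
  ⟨(injectiveResolution F).isoRightDerivedObj (evA J (op U)) n ≪≫
    ((presheafCx (injectiveResolution F)).sc n).mapHomologyIso
      ((evaluation Cᵒᵖ AddCommGrpCat.{u}).obj (op U)) ≪≫
    ((evaluation Cᵒᵖ AddCommGrpCat.{u}).obj (op U)).mapIso
      (homologyPresheafIso (injectiveResolution F) n)⟩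

/-- Sheaves sent to injective sheaves are acyclic for any functor. -/
theorem isAcyclicFor_of_preservesInjective {A A' B : Type*} [Category A] [Abelian A] [Category A']
    [Abelian A'] [EnoughInjectives A'] [Category B] [Abelian B] (T : A ⥤ A') (S : A' ⥤ B) [S.Additive]
    (h : ∀ I : A, Injective I → Injective (T.obj I)) (Q : A) (hQ : Injective Q) :
    IsAcyclicFor S (T.obj Q) :=
  haveI := h Q hQ
  isAcyclicFor_of_injective S _

/-- Isomorphic functors have isomorphic derived functors. -/
theorem nonempty_rightDerived_congr {A B : Type*} [Category A] [Abelian A] [HasInjectiveResolutions A]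
    [Category B] [Abelian B] {F G : A ⥤ B} [F.Additive] [G.Additive] (e : F ≅ G) (n : ℕ) (X : A) :
    Nonempty ((F.rightDerived n).obj X ≅ (G.rightDerived n).obj X) :=
  ⟨(injectiveResolution X).isoRightDerivedObj F n ≪≫
    (HomologicalComplex.homologyFunctor _ _ n).mapIso
      ((NatIso.mapHomologicalComplex e (ComplexShape.up ℕ)).app _) ≪≫
    ((injectiveResolution X).isoRightDerivedObj G n).symm⟩

theorem isZero_punit : IsZero (AddCommGrpCat.of PUnit.{u + 1}) :=
  AddCommGrpCat.isZero_of_subsingleton _

end Groth.Agent.SpSeqLib
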