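import Groth.Agent.SiteBase.OpenQuot
import Groth.Agent.SpSeqLib.SiteDerived

/-!
# Functors computing Ext groups with supports
-/

set_option linter.style.haveILetI false
set_option linter.unusedSectionVars false

universe v u

open CategoryTheory Limits Opposite Abelian

noncomputable section

namespace Groth.Agent.SpSeqLib

/-- For `L ⊣ R`, `Hom(X, R -) = Hom(L X, -)`. -/
def compCoyonedaIso {A B : Type*} [Category.{v} A] [Abelian A] [Category.{v} B] [Abelian B]
    {L : B ⥤ A} {R : A ⥤ B} (adj : L ⊣ R) [L.Additive] (X : B) :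
    R ⋙ preadditiveCoyoneda.obj (op X) ≅ preadditiveCoyoneda.obj (op (L.obj X)) :=
  NatIso.ofComponents (fun N => AddEquiv.toAddCommGrpIso (adj.homAddEquiv X N).symm)
    (fun {N N'} g => by
      ext f
      exact adj.homEquiv_naturality_right_symm f g)

open SiteBase SiteBase.OpenQuot

variable {C : Type u} [SmallCategory C] {J : GrothendieckTopology C} {O : Sheaf J CommRingCat.{u}}

section

variable (U : C) (M : ModSite.Mod O) [ModSite.HasSheafHom M]

/-- `Y ⊗ M = M/M_U`. -/
def tensClosedIso : ((ModSite.tensorBi O).flip.obj M).obj (closedMod O U) ≅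
    (ModSite.quotOn O U).obj M :=
  ModTensor.tensComm O (closedMod O U) M ≪≫ ((quotOnIso O U).app M).symm

/-- `Hom(Y, ℋom(M, -)) = Hom(M/M_U, -)`. -/
def sheafHomClosedIso : ModSite.sheafHom M ⋙ preadditiveCoyoneda.obj (op (closedMod O U)) ≅
    preadditiveCoyoneda.obj (op ((ModSite.quotOn O U).obj M)) :=
  compCoyonedaIso (ModSite.sheafHomAdj M) (closedMod O U) ≪≫
    preadditiveCoyoneda.mapIso (tensClosedIso U M).symm.op

variable [ModSite.HasPushOver O U]

instance additive_quotOn : (ModSite.quotOn O U).Additive :=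
  (quotSectAdj O U).left_adjoint_additive

/-- `Γ(Γ_Z ℋom(M, -)) = Hom(M/M_U, -)`. -/
def gammaClosedIso :
    (ModSite.sheafHom M ⋙ ModSite.sectOn O U) ⋙ preadditiveCoyoneda.obj (op (ModSite.unit O)) ≅
      preadditiveCoyoneda.obj (op ((ModSite.quotOn O U).obj M)) :=
  compCoyonedaIso ((quotSectAdj O U).comp (ModSite.sheafHomAdj M)) (ModSite.unit O) ≪≫
    preadditiveCoyoneda.mapIso
      (((ModSite.tensorBi O).flip.obj M).mapIso ((quotOnIso O U).app (ModSite.unit O) ≪≫
        ModTensor.tensComm O (ModSite.unit O) (closedMod O U) ≪≫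
        (ModTensor.tensorUnitRight O).app (closedMod O U)) ≪≫ tensClosedIso U M).symm.op

/-- `Γ_Z ℋom(M, I)` is totally acyclic for injective `I`. -/
theorem isTotallyAcyclic_sectOn_sheafHom (I : ModSite.Mod O) [Injective I] :
    CohCx.IsTotallyAcyclic (ModSite.toAb ((ModSite.sheafHom M ⋙ ModSite.sectOn O U).obj I)) := by
  let M' := ModTensor.tens O (closedMod O U) M
  haveI := ModTensor.hasSheafHom O M'
  let e : ModSite.quotOn O U ⋙ (ModSite.tensorBi O).flip.obj M ≅
      (ModSite.tensorBi O).flip.obj M' :=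
    Functor.isoWhiskerRight (quotOnIso O U) _ ≪≫ ModTensor.tensorAssoc O (closedMod O U) M
  let i := (((quotSectAdj O U).comp (ModSite.sheafHomAdj M)).ofNatIsoLeft e).rightAdjointUniq
    (ModSite.sheafHomAdj M')
  let j : ModSite.toAb ((ModSite.sheafHom M ⋙ ModSite.sectOn O U).obj I) ≅
      ModSite.toAb ((ModSite.sheafHom M').obj I) :=
    (SheafOfModules.toSheaf (ModSite.ringSh O)).mapIso (i.app I)
  intro K p
  haveI := isTotallyAcyclic_sheafHom M' I K p
  refine Function.Injective.subsingleton
    (f := fun x => x.comp (Ext.mk₀ j.hom) (add_zero (p + 1))) fun x y h => ?_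
  simpa using congrArg (fun z => Ext.comp z (Ext.mk₀ j.inv) (add_zero (p + 1))) h

end

variable [HasExt.{u} (ModSite.Mod O)] [HasInjectiveResolutions (ModSite.Mod O)]

/-- Derived functors of `Hom(Y, -)` are cohomology with supports. -/
theorem nonempty_rightDerived_closed (U : C) (N : ModSite.Mod O) (n : ℕ) :
    Nonempty (((preadditiveCoyoneda.obj (op (closedMod O U))).rightDerived n).obj N ≅
      AddCommGrpCat.of (ModSite.HZ U N n)) :=
  ⟨(nonempty_rightDerived_coyoneda_iso (closedMod O U) N n).some ≪≫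
    AddEquiv.toAddCommGrpIso (X := AddCommGrpCat.of (Ext.{u} (closedMod O U) N n))
      (Y := AddCommGrpCat.of (ModSite.HZ U N n)) (extClosedEquiv O U N n)⟩

/-- Derived functors of `Hom(O, -)` are cohomology. -/
theorem nonempty_rightDerived_unit (N : ModSite.Mod O) (n : ℕ) :
    Nonempty (((preadditiveCoyoneda.obj (op (ModSite.unit O))).rightDerived n).obj N ≅
      AddCommGrpCat.of (ModSite.HC O N n)) :=
  ⟨(nonempty_rightDerived_coyoneda_iso (ModSite.unit O) N n).some ≪≫
    AddEquiv.toAddCommGrpIso (X := AddCommGrpCat.of (Ext.{u} (ModSite.unit O) N n))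
      (Y := AddCommGrpCat.of (ModSite.HC O N n))
      (nonempty_ext_unit_H (ModSite.ringSh O) N n).some⟩

/-- Totally acyclic modules are acyclic for `Hom(Y, -)`. -/
theorem isAcyclicFor_closed (U : C) {N : ModSite.Mod O}
    (hN : CohCx.IsTotallyAcyclic (ModSite.toAb N)) :
    IsAcyclicFor (preadditiveCoyoneda.obj (op (closedMod O U))) N := fun p => by
  refine IsZero.of_iso ?_ (nonempty_rightDerived_closed U N (p + 1)).some
  haveI : Subsingleton (ModSite.HZ U N (p + 1)) := subsingleton_ext_quotZ hN U p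
  exact AddCommGrpCat.isZero_of_subsingleton _

/-- Totally acyclic modules are acyclic for `Hom(O, -)`. -/
theorem isAcyclicFor_unit {N : ModSite.Mod O} (hN : CohCx.IsTotallyAcyclic (ModSite.toAb N)) :
    IsAcyclicFor (preadditiveCoyoneda.obj (op (ModSite.unit O))) N := fun p => by
  refine IsZero.of_iso ?_ (nonempty_rightDerived_unit N (p + 1)).some
  haveI : Subsingleton (ModSite.HC O N (p + 1)) := subsingleton_H_of_isTotallyAcyclic hN p
  exact AddCommGrpCat.isZero_of_subsingleton _

end Groth.Agent.SpSeqLib
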