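import Mathlib

/-!
# Right derived functors and composition with exact functors
-/

set_option linter.style.haveILetI false
set_option linter.unusedSectionVars false

universe v₁ v₂ v₃ u₁ u₂ u₃

open CategoryTheory Limits

noncomputable section

namespace Groth.Agent.SpSeqLib

variable {A : Type u₁} [Category.{v₁} A] [Abelian A] {B : Type u₂} [Category.{v₂} B] [Abelian B]
  {D : Type u₃} [Category.{v₃} D] [Abelian D]

section

variable (E : A ⥤ B) [E.Additive] [PreservesFiniteLimits E] [PreservesFiniteColimits E]

/-- The image of an injective resolution under an exact functor preserving injectives. -/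
@[simps cocomplex]
def precompResolution (hE : ∀ I : A, Injective I → Injective (E.obj I)) {X : A}
    (I : InjectiveResolution X) : InjectiveResolution (E.obj X) where
  cocomplex := (E.mapHomologicalComplex _).obj I.cocomplex
  injective n := hE _ (I.injective n)
  ι := ((HomologicalComplex.singleMapHomologicalComplex E (ComplexShape.up ℕ) 0).app X).inv ≫
    (E.mapHomologicalComplex _).map I.ι
  quasiIso := inferInstance

theorem precompResolution_ι_f (hE : ∀ I : A, Injective I → Injective (E.obj I)) {X : A}
    (I : InjectiveResolution X) :
    (precompResolution E hE I).ι.f 0 = E.map (I.ι.f 0) := by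
  show ((HomologicalComplex.singleMapHomologicalComplex E (ComplexShape.up ℕ) 0).inv.app X).f 0 ≫
    E.map (I.ι.f 0) = _
  rw [HomologicalComplex.singleMapHomologicalComplex_inv_app_self]
  simp [HomologicalComplex.singleObjXSelf, HomologicalComplex.singleObjXIsoOfEq]
  refine Eq.trans (congrArg (· ≫ E.map (I.ι.f 0)) ?_) (Category.id_comp _)
  simp

variable [HasInjectiveResolutions A] [HasInjectiveResolutions B]

/-- Deriving commutes with precomposition by an exact functor preserving injectives. -/
def rightDerivedPrecompIso (hE : ∀ I : A, Injective I → Injective (E.obj I)) (G : B ⥤ D) [G.Additive]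
    (n : ℕ) : (E ⋙ G).rightDerived n ≅ E ⋙ G.rightDerived n :=
  NatIso.ofComponents
    (fun X => (injectiveResolution X).isoRightDerivedObj (E ⋙ G) n ≪≫
      ((precompResolution E hE (injectiveResolution X)).isoRightDerivedObj G n).symm)
    fun {X Y} f => by
      let φ := InjectiveResolution.desc f (injectiveResolution Y) (injectiveResolution X)
      have hφ : (injectiveResolution X).ι.f 0 ≫ φ.f 0 = f ≫ (injectiveResolution Y).ι.f 0 :=
        InjectiveResolution.desc_commutes_zero f _ _
      have h1 := InjectiveResolution.isoRightDerivedObj_hom_naturality f _ _ φ hφ (E ⋙ G) n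
      have h2 := InjectiveResolution.isoRightDerivedObj_inv_naturality (E.map f)
        (precompResolution E hE (injectiveResolution X)) (precompResolution E hE (injectiveResolution Y))
        ((E.mapHomologicalComplex _).map φ) (by
          rw [precompResolution_ι_f, precompResolution_ι_f]
          exact (E.map_comp _ _).symm.trans ((congrArg E.map hφ).trans (E.map_comp _ _))) G n
      exact (Category.assoc _ _ _).symm.trans ((congrArg (· ≫ _) h1).trans
        ((Category.assoc _ _ _).trans ((congrArg _ h2.symm).trans (Category.assoc _ _ _).symm)))

end

section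

variable [HasInjectiveResolutions A] (F : A ⥤ B) [F.Additive]
  (E : B ⥤ D) [E.Additive] [PreservesFiniteLimits E] [PreservesFiniteColimits E]

/-- Exact functors commute with the homology of cochain complexes. -/
def homologyMapIso (K : CochainComplex B ℕ) (n : ℕ) :
    ((E.mapHomologicalComplex _).obj K).homology n ≅ E.obj (K.homology n) :=
  (K.sc n).mapHomologyIso E

/-- Deriving commutes with postcomposition by an exact functor. -/
def rightDerivedPostcompIso (n : ℕ) : (F ⋙ E).rightDerived n ≅ F.rightDerived n ⋙ E :=
  NatIso.ofComponents
    (fun X => (injectiveResolution X).isoRightDerivedObj (F ⋙ E) n ≪≫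
      homologyMapIso E ((F.mapHomologicalComplex _).obj (injectiveResolution X).cocomplex) n ≪≫
        E.mapIso ((injectiveResolution X).isoRightDerivedObj F n).symm)
    fun {X Y} f => by
      let φ := InjectiveResolution.desc f (injectiveResolution Y) (injectiveResolution X)
      have hφ : (injectiveResolution X).ι.f 0 ≫ φ.f 0 = f ≫ (injectiveResolution Y).ι.f 0 :=
        InjectiveResolution.desc_commutes_zero f _ _
      have h1 := InjectiveResolution.isoRightDerivedObj_hom_naturality f _ _ φ hφ (F ⋙ E) n
      have h2 := InjectiveResolution.isoRightDerivedObj_inv_naturality f _ _ φ hφ F n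
      have h3 : HomologicalComplex.homologyMap
            ((E.mapHomologicalComplex _).map ((F.mapHomologicalComplex _).map φ)) n ≫
          (homologyMapIso E ((F.mapHomologicalComplex _).obj (injectiveResolution Y).cocomplex) n).hom =
          (homologyMapIso E ((F.mapHomologicalComplex _).obj (injectiveResolution X).cocomplex) n).hom ≫
            E.map (HomologicalComplex.homologyMap ((F.mapHomologicalComplex _).map φ) n) :=
        ShortComplex.mapHomologyIso_hom_naturality
          ((HomologicalComplex.shortComplexFunctor B _ n).map ((F.mapHomologicalComplex _).map φ)) E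
      refine (Category.assoc _ _ _).symm.trans ((congrArg (· ≫ _) h1).trans
        ((Category.assoc _ _ _).trans ?_))
      refine Eq.trans (congrArg _ ?_) (Category.assoc _ _ _).symm
      refine (Category.assoc _ _ _).symm.trans ((congrArg (· ≫ _) h3).trans
        ((Category.assoc _ _ _).trans ?_))
      refine Eq.trans (congrArg _ ?_) (Category.assoc _ _ _).symm
      exact (E.map_comp _ _).symm.trans ((congrArg E.map h2.symm).trans (E.map_comp _ _))

end

end Groth.Agent.SpSeqLib

noncomputable section

namespace Groth.Agent.SpSeqLib

variable {A : Type u₁} [Category.{v₁} A] [Abelian A] [HasInjectiveResolutions A]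
  {B : Type u₂} [Category.{v₂} B] [Abelian B]

/-- Isomorphic functors have isomorphic derived functors. -/
def rightDerivedCongr {F G : A ⥤ B} [F.Additive] [G.Additive] (e : F ≅ G) (n : ℕ) :
    F.rightDerived n ≅ G.rightDerived n where
  hom := NatTrans.rightDerived e.hom n
  inv := NatTrans.rightDerived e.inv n
  hom_inv_id := by rw [← NatTrans.rightDerived_comp, e.hom_inv_id, NatTrans.rightDerived_id]
  inv_hom_id := by rw [← NatTrans.rightDerived_comp, e.inv_hom_id, NatTrans.rightDerived_id]

end Groth.Agent.SpSeqLib
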