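import Mathlib.Algebra.Homology.Embedding.Extend
import Mathlib.Algebra.Homology.Additive

/-!
# Extension of complexes commutes with additive functors
-/

universe v v' u u'

open CategoryTheory Limits

noncomputable section

namespace Groth.Agent.SpSeqLib

variable {C : Type u} [Category.{v} C] [Preadditive C] [HasZeroObject C]
  {D : Type u'} [Category.{v'} D] [Preadditive D] [HasZeroObject D] (F : C ⥤ D) [F.Additive]
  {ι ι' : Type*} {c : ComplexShape ι} {c' : ComplexShape ι'}
  (K : HomologicalComplex C c) (e : c.Embedding c')

/-- The comparison in a given degree. -/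
def extendMapXIso : ∀ o : Option ι, F.obj (HomologicalComplex.extend.X K o) ≅
    HomologicalComplex.extend.X ((F.mapHomologicalComplex c).obj K) o
  | some _ => Iso.refl _
  | none => F.mapZeroObject

theorem extendMapXIso_comm : ∀ o o' : Option ι,
    (extendMapXIso F K o).hom ≫
        HomologicalComplex.extend.d ((F.mapHomologicalComplex c).obj K) o o' =
      F.map (HomologicalComplex.extend.d K o o') ≫ (extendMapXIso F K o').hom
  | none, _ => (F.map_isZero (isZero_zero C)).eq_of_src _ _
  | some _, none => (isZero_zero D).eq_of_tgt _ _
  | some _, some _ => (Category.id_comp _).trans (Category.comp_id _).symm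

/-- Extension by zero commutes with additive functors. -/
def mapExtendIso : (F.mapHomologicalComplex c').obj (K.extend e) ≅
    ((F.mapHomologicalComplex c).obj K).extend e :=
  HomologicalComplex.Hom.isoOfComponents (fun i' => extendMapXIso F K (e.r i'))
    (fun i j _ => extendMapXIso_comm F K (e.r i) (e.r j))

end Groth.Agent.SpSeqLib
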