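import Groth.Agent.SpSeqLib.Acyclic
import Groth.Agent.SpSeqLib.ExtendMap
import Groth.Agent.SpSeqLib.DerivedComp

/-!
# Deriving after an exact functor sending injectives to acyclic objects
-/

set_option linter.style.haveILetI false
set_option linter.unusedSectionVars false

universe v v₁ v₂ u u₁ u₂

open CategoryTheory Limits

noncomputable section

namespace Groth.Agent.SpSeqLib

section Resolution

variable {C : Type u} [Category.{v} C] [Abelian C]

/-- An exact coaugmented cochain complex. -/
structure ExactResolution (X : C) where
  /-- The complex. -/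
  cocomplex : CochainComplex C ℕ
  /-- The augmentation. -/
  η : X ⟶ cocomplex.X 0
  w : η ≫ cocomplex.d 0 1 = 0
  mono : Mono η
  exact₀ : (ShortComplex.mk η (cocomplex.d 0 1) w).Exact
  exact_succ : ∀ n, (ShortComplex.mk (cocomplex.d n (n + 1)) (cocomplex.d (n + 1) (n + 2))
    (cocomplex.d_comp_d _ _ _)).Exact

variable {X Y : C} (R : ExactResolution X) (J : CochainComplex C ℕ) [∀ n, Injective (J.X n)]

/-- Extension of a map to a complex of injectives. -/
theorem ExactResolution.exists_desc (ζ : X ⟶ J.X 0) (hζ : ζ ≫ J.d 0 1 = 0) :
    ∃ φ : R.cocomplex ⟶ J, R.η ≫ φ.f 0 = ζ := by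
  haveI := R.mono
  let f0 := Injective.factorThru ζ R.η
  have w0 : R.η ≫ f0 ≫ J.d 0 1 = 0 := by
    rw [← Category.assoc, Injective.comp_factorThru, hζ]
  let f1 := R.exact₀.descToInjective (f0 ≫ J.d 0 1) w0
  refine ⟨CochainComplex.mkHom _ _ f0 f1 (R.exact₀.comp_descToInjective _ _).symm
    fun n p => ⟨(R.exact_succ n).descToInjective (p.2.1 ≫ J.d (n + 1) (n + 2)) ?_,
      ((R.exact_succ n).comp_descToInjective _ _).symm⟩, ?_⟩
  · rw [← Category.assoc, ← p.2.2, Category.assoc, J.d_comp_d, comp_zero]
  · exact Injective.comp_factorThru ζ R.η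

/-- Two extensions of a map to a complex of injectives are homotopic. -/
def ExactResolution.homotopyZero (φ : R.cocomplex ⟶ J) (h : R.η ≫ φ.f 0 = 0) : Homotopy φ 0 :=
  Homotopy.mkCoinductive _ (R.exact₀.descToInjective (φ.f 0) h)
    (R.exact₀.comp_descToInjective _ h).symm
    ((R.exact_succ 0).descToInjective
      (φ.f 1 - R.exact₀.descToInjective (φ.f 0) h ≫ J.d 0 1) (by
      dsimp
      rw [Preadditive.comp_sub, ← φ.comm, ← Category.assoc]
      refine sub_eq_zero.2 (congrArg (· ≫ J.d 0 1) ?_).symm
      exact R.exact₀.comp_descToInjective _ h))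
    (by
      rw [(R.exact_succ 0).comp_descToInjective]
      abel)
    fun n ⟨g, g', w⟩ => ⟨(R.exact_succ (n + 1)).descToInjective
      (φ.f (n + 2) - g' ≫ J.d (n + 1) (n + 2)) (by
      dsimp
      rw [Preadditive.comp_sub, ← φ.comm, w]
      simp only [Preadditive.add_comp, Category.assoc, HomologicalComplex.d_comp_d, comp_zero]
      abel), by
      rw [(R.exact_succ (n + 1)).comp_descToInjective]
      abel⟩

/-- Two extensions of the same map are homotopic. -/
def ExactResolution.homotopy (φ ψ : R.cocomplex ⟶ J) (h : R.η ≫ φ.f 0 = R.η ≫ ψ.f 0) :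
    Homotopy φ ψ :=
  Homotopy.equivSubZero.invFun (R.homotopyZero J (φ - ψ) (by
    rw [HomologicalComplex.sub_f_apply, Preadditive.comp_sub, h, sub_self]))

/-- An injective resolution is a resolution. -/
def ExactResolution.ofInjective (I : InjectiveResolution X) : ExactResolution X where
  cocomplex := I.cocomplex
  η := I.ι.f 0
  w := I.ι_f_zero_comp_complex_d
  mono := inferInstanceAs (Mono (I.ι.f 0))
  exact₀ := I.exact₀
  exact_succ := I.exact_succ

variable {D : Type u₂} [Category.{v₂} D] [Abelian D]

/-- The image of a resolution under an exact functor. -/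
def ExactResolution.map (E : C ⥤ D) [E.Additive] [PreservesFiniteLimits E]
    [PreservesFiniteColimits E] (R : ExactResolution X) : ExactResolution (E.obj X) where
  cocomplex := (E.mapHomologicalComplex _).obj R.cocomplex
  η := E.map R.η
  w := (E.map_comp _ _).symm.trans ((congrArg E.map R.w).trans (E.map_zero _ _))
  mono := haveI := R.mono; inferInstanceAs (Mono (E.map R.η))
  exact₀ := R.exact₀.map E
  exact_succ n := (R.exact_succ n).map E

theorem ExactResolution.quasiIso_of_comp (R : ExactResolution X) (J : InjectiveResolution X)
    (φ : R.cocomplex ⟶ J.cocomplex) (hφ : R.η ≫ φ.f 0 = J.ι.f 0) : QuasiIso φ := by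
  let a : (CochainComplex.single₀ C).obj X ⟶ R.cocomplex :=
    (R.cocomplex.fromSingle₀Equiv X).symm ⟨R.η, R.w⟩
  have ha : a.f 0 = R.η := by simp [a]
  haveI : QuasiIso a := ⟨fun n => by
    cases n with
    | zero =>
      rw [CochainComplex.quasiIsoAt₀_iff, ShortComplex.quasiIso_iff_of_zeros]
      · haveI := R.mono
        refine (ShortComplex.exact_and_mono_f_iff_of_iso ?_).2 ⟨R.exact₀, this⟩
        exact ShortComplex.isoMk (Iso.refl _) (Iso.refl _) (Iso.refl _)
          ((Category.id_comp _).trans (Eq.trans ha.symm (Category.comp_id _).symm))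
          ((Category.id_comp _).trans (Category.comp_id _).symm)
      all_goals first | rfl | exact HomologicalComplex.shape _ _ _ (by simp)
    | succ m =>
      rw [quasiIsoAt_iff_exactAt _ _ (CochainComplex.exactAt_succ_single_obj X m),
        HomologicalComplex.exactAt_iff' _ m (m + 1) (m + 2) (by simp) (by simp)]
      exact R.exact_succ m⟩
  have e : a ≫ φ = J.ι := by
    ext
    simp [ha, hφ]
  haveI : QuasiIso (a ≫ φ) := by rw [e]; infer_instance
  exact quasiIso_of_comp_left a φ

end Resolution

section Derived

variable {A : Type u₁} [Category.{v₁} A] [Abelian A] [HasInjectiveResolutions A]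
  {B : Type u₂} [Category.{v₂} B] [Abelian B] [EnoughInjectives B]
  {D : Type u} [Category.{v} D] [Abelian D]

theorem mapExtendIso_hom_naturality {ι ι' : Type} {c : ComplexShape ι} {c' : ComplexShape ι'}
    (G : B ⥤ D) [G.Additive] {K L : HomologicalComplex B c} (φ : K ⟶ L) (e : c.Embedding c') :
    (G.mapHomologicalComplex c').map (HomologicalComplex.extendMap φ e) ≫ (mapExtendIso G L e).hom =
      (mapExtendIso G K e).hom ≫
        HomologicalComplex.extendMap ((G.mapHomologicalComplex c).map φ) e := by
  ext i'
  show G.map (HomologicalComplex.extend.mapX φ (e.r i')) ≫ (extendMapXIso G L (e.r i')).hom =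
    (extendMapXIso G K (e.r i')).hom ≫
      HomologicalComplex.extend.mapX ((G.mapHomologicalComplex c).map φ) (e.r i')
  rcases e.r i' with - | i
  · exact (G.map_isZero (isZero_zero B)).eq_of_src _ _
  · exact (Category.comp_id _).trans (Category.id_comp _).symm

variable (E : A ⥤ B) [E.Additive] [PreservesFiniteLimits E] [PreservesFiniteColimits E]
  (G : B ⥤ D) [G.Additive] [PreservesFiniteLimits G]

theorem quasiIso_map_nat {K L : CochainComplex B ℕ} (φ : K ⟶ L) [QuasiIso φ]
    (hK : ∀ n, IsAcyclicFor G (K.X n)) (hL : ∀ n, IsAcyclicFor G (L.X n)) :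
    QuasiIso ((G.mapHomologicalComplex _).map φ) := by
  let e := ComplexShape.embeddingUpNat
  let φ' := HomologicalComplex.extendMap φ e
  haveI : QuasiIso φ' := (HomologicalComplex.quasiIso_extendMap_iff φ e).2 inferInstance
  have hX : ∀ (M : CochainComplex B ℕ), (∀ n, IsAcyclicFor G (M.X n)) →
      ∀ m : ℤ, IsAcyclicFor G ((M.extend e).X m) := fun M hM m p => by
    by_cases hm : ∃ n : ℕ, e.f n = m
    · obtain ⟨n, hn⟩ := hm
      exact (hM n p).of_iso ((G.rightDerived (p + 1)).mapIso (M.extendXIso e hn))
    · exact isAcyclicFor_of_isZero G (M.isZero_extend_X e m (fun n hn => hm ⟨n, hn⟩)) p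
  haveI := quasiIso_map G φ' 0 (hX K hK) (hX L hL)
  rw [← HomologicalComplex.quasiIso_extendMap_iff _ e]
  exact (quasiIso_iff_of_arrow_mk_iso ((G.mapHomologicalComplex (ComplexShape.up ℤ)).map φ') _
    (Arrow.isoMk (mapExtendIso G K e) (mapExtendIso G L e)
      (mapExtendIso_hom_naturality G φ e).symm)).1 inferInstance

variable (hac : ∀ I : A, Injective I → IsAcyclicFor G (E.obj I))

/-- The comparison of the image of the chosen resolution with the chosen resolution of the image. -/
def compareResolution (X : A) : ((E.mapHomologicalComplex _).obj (injectiveResolution X).cocomplex) ⟶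
    (injectiveResolution (E.obj X)).cocomplex :=
  (((ExactResolution.ofInjective (injectiveResolution X)).map E).exists_desc
    (injectiveResolution (E.obj X)).cocomplex ((injectiveResolution (E.obj X)).ι.f 0)
    (injectiveResolution (E.obj X)).ι_f_zero_comp_complex_d).choose

theorem compareResolution_spec (X : A) :
    E.map ((injectiveResolution X).ι.f 0) ≫ (compareResolution E X).f 0 =
      (injectiveResolution (E.obj X)).ι.f 0 :=
  (((ExactResolution.ofInjective (injectiveResolution X)).map E).exists_desc
    (injectiveResolution (E.obj X)).cocomplex ((injectiveResolution (E.obj X)).ι.f 0)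
    (injectiveResolution (E.obj X)).ι_f_zero_comp_complex_d).choose_spec

include hac in
theorem isIso_homologyMap_compareResolution (X : A) (n : ℕ) :
    IsIso (HomologicalComplex.homologyMap
      ((G.mapHomologicalComplex _).map (compareResolution E X)) n) := by
  haveI : QuasiIso (compareResolution E X) :=
    ((ExactResolution.ofInjective (injectiveResolution X)).map E).quasiIso_of_comp
      (injectiveResolution (E.obj X)) _ (compareResolution_spec E X)
  haveI := quasiIso_map_nat G (compareResolution E X)
    (fun n => hac _ ((injectiveResolution X).injective n))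
    (fun n => haveI := (injectiveResolution (E.obj X)).injective n; isAcyclicFor_of_injective G _)
  infer_instance

/-- Deriving commutes with precomposition by an exact functor sending injectives to acyclics. -/
def rightDerivedPrecompAcyclicIso (n : ℕ) : (E ⋙ G).rightDerived n ≅ E ⋙ G.rightDerived n :=
  NatIso.ofComponents
    (fun X => (injectiveResolution X).isoRightDerivedObj (E ⋙ G) n ≪≫
      @asIso _ _ _ _ (HomologicalComplex.homologyMap
        ((G.mapHomologicalComplex _).map (compareResolution E X)) n)
        (isIso_homologyMap_compareResolution E G hac X n) ≪≫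
      ((injectiveResolution (E.obj X)).isoRightDerivedObj G n).symm)
    fun {X Y} f => by
      let φ := InjectiveResolution.desc f (injectiveResolution Y) (injectiveResolution X)
      have hφ : (injectiveResolution X).ι.f 0 ≫ φ.f 0 = f ≫ (injectiveResolution Y).ι.f 0 :=
        InjectiveResolution.desc_commutes_zero f _ _
      let ψ := InjectiveResolution.desc (E.map f) (injectiveResolution (E.obj Y))
        (injectiveResolution (E.obj X))
      have hψ : (injectiveResolution (E.obj X)).ι.f 0 ≫ ψ.f 0 =
          E.map f ≫ (injectiveResolution (E.obj Y)).ι.f 0 :=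
        InjectiveResolution.desc_commutes_zero (E.map f) _ _
      have h1 := InjectiveResolution.isoRightDerivedObj_hom_naturality f _ _ φ hφ (E ⋙ G) n
      have h2 := InjectiveResolution.isoRightDerivedObj_inv_naturality (E.map f) _ _ ψ hψ G n
      let H := ((ExactResolution.ofInjective (injectiveResolution X)).map E).homotopy
        (injectiveResolution (E.obj Y)).cocomplex
        ((E.mapHomologicalComplex _).map φ ≫ compareResolution E Y) (compareResolution E X ≫ ψ) (by
          refine Eq.trans ((Category.assoc _ _ _).symm.trans ((congrArg (· ≫ _)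
            ((E.map_comp _ _).symm.trans ((congrArg E.map hφ).trans (E.map_comp _ _)))).trans
            ((Category.assoc _ _ _).trans (congrArg _ (compareResolution_spec E Y))))) ?_
          exact hψ.symm.trans ((congrArg (· ≫ ψ.f 0) (compareResolution_spec E X).symm).trans
            (Category.assoc _ _ _)))
      have h3 : HomologicalComplex.homologyMap ((G.mapHomologicalComplex _).map
            ((E.mapHomologicalComplex _).map φ)) n ≫
          HomologicalComplex.homologyMap ((G.mapHomologicalComplex _).map (compareResolution E Y)) n =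
          HomologicalComplex.homologyMap ((G.mapHomologicalComplex _).map (compareResolution E X)) n ≫
            HomologicalComplex.homologyMap ((G.mapHomologicalComplex _).map ψ) n := by
        rw [← HomologicalComplex.homologyMap_comp, ← HomologicalComplex.homologyMap_comp,
          ← Functor.map_comp, ← Functor.map_comp]
        exact (G.mapHomotopy H).homologyMap_eq n
      refine (Category.assoc _ _ _).symm.trans ((congrArg (· ≫ _) h1).trans
        ((Category.assoc _ _ _).trans ?_))
      refine Eq.trans (congrArg _ ?_) (Category.assoc _ _ _).symm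
      refine (Category.assoc _ _ _).symm.trans ((congrArg (· ≫ _) h3).trans
        ((Category.assoc _ _ _).trans ?_))
      refine Eq.trans (congrArg _ ?_) (Category.assoc _ _ _).symm
      exact h2.symm

end Derived

end Groth.Agent.SpSeqLib
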