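import Groth.Agent.SpSeqLib.ExtendMap
import Mathlib

/-!
# Right derived functors as a homological functor on the bounded below derived category
-/

set_option linter.style.haveILetI false

universe w w' v v' u u'

open CategoryTheory Limits Pretriangulated

noncomputable section

namespace Groth.Agent.SpSeqLib

variable {A : Type u} [Category.{v} A] [Abelian A] [HasDerivedCategory.{w} A]
  {B : Type u'} [Category.{v'} B] [Abelian B]

variable (A) in
/-- Bounded below complexes of injectives to the bounded below derived category. -/
abbrev injToPlus : HomotopyCategory.Plus (InjectiveObject A) ⥤ DerivedCategory.Plus A :=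
  (InjectiveObject.ι A).mapHomotopyCategoryPlus ⋙ DerivedCategory.Plus.Qh

instance faithful_injToPlus : (injToPlus A).Faithful where
  map_injective {K L} f g h := by
    obtain ⟨L₀, rfl⟩ := HomotopyCategory.Plus.quotient_obj_surjective L
    apply (InjectiveObject.ι A).mapHomotopyCategoryPlus.map_injective
    exact (DerivedCategory.Plus.Qh_map_bijective_of_isKInjective _ _ (inferInstanceAs
      (CochainComplex.IsKInjective
        (((InjectiveObject.ι A).mapHomologicalComplex (.up ℤ)).obj L₀.obj)))).1 h

instance full_injToPlus : (injToPlus A).Full where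
  map_surjective {K L} f := by
    obtain ⟨L₀, rfl⟩ := HomotopyCategory.Plus.quotient_obj_surjective L
    obtain ⟨g, hg⟩ := (DerivedCategory.Plus.Qh_map_bijective_of_isKInjective _ _ (inferInstanceAs
      (CochainComplex.IsKInjective
        (((InjectiveObject.ι A).mapHomologicalComplex (.up ℤ)).obj L₀.obj)))).2 f
    obtain ⟨g', rfl⟩ := (InjectiveObject.ι A).mapHomotopyCategoryPlus.map_surjective g
    exact ⟨g', hg⟩

/-- The image in the derived category of a complex of injectives. -/
abbrev injObj (L : CochainComplex.Plus (InjectiveObject A)) : DerivedCategory.Plus A :=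
  DerivedCategory.Plus.Q.obj ((InjectiveObject.ι A).mapCochainComplexPlus.obj L)

variable [EnoughInjectives A]

instance essSurj_injToPlus : (injToPlus A).EssSurj where
  mem_essImage X := by
    obtain ⟨n, hn⟩ := X.property
    haveI : X.IsGE n := (X.isGE_ι_obj_iff n).1 hn
    obtain ⟨L, _, ⟨e⟩⟩ := DerivedCategory.Plus.exists_injective_nonempty_iso X n
    exact ⟨(HomotopyCategory.Plus.quotient _).obj L, ⟨e⟩⟩

instance isEquivalence_injToPlus : (injToPlus A).IsEquivalence where

variable (A) in
/-- The injective resolution functor on the bounded below derived category. -/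
def resolutionFunctor : DerivedCategory.Plus A ⥤ HomotopyCategory.Plus (InjectiveObject A) :=
  (injToPlus A).asEquivalence.inverse

instance commShift_resolutionFunctor : (resolutionFunctor A).CommShift ℤ := by
  letI : (injToPlus A).asEquivalence.functor.CommShift ℤ :=
    inferInstanceAs ((injToPlus A).CommShift ℤ)
  exact (injToPlus A).asEquivalence.commShiftInverse ℤ

instance isTriangulated_resolutionFunctor : (resolutionFunctor A).IsTriangulated := by
  letI : (injToPlus A).asEquivalence.functor.CommShift ℤ :=
    inferInstanceAs ((injToPlus A).CommShift ℤ)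
  letI := (injToPlus A).asEquivalence.commShiftInverse ℤ
  haveI := (injToPlus A).asEquivalence.commShift_of_functor ℤ
  haveI : (injToPlus A).asEquivalence.functor.IsTriangulated :=
    inferInstanceAs ((injToPlus A).IsTriangulated)
  haveI := Equivalence.IsTriangulated.mk' (injToPlus A).asEquivalence ‹_›
  exact inferInstanceAs ((injToPlus A).asEquivalence.inverse.IsTriangulated)

variable (S : A ⥤ B) [S.Additive]

/-- `S` on bounded below homotopy classes of complexes of injectives. -/
abbrev mapInj : HomotopyCategory.Plus (InjectiveObject A) ⥤ HomotopyCategory.Plus B :=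
  (InjectiveObject.ι A ⋙ S).mapHomotopyCategoryPlus

/-- The right derived functor `H⁰ ∘ RS`. -/
abbrev rG : DerivedCategory.Plus A ⥤ B :=
  resolutionFunctor A ⋙ mapInj S ⋙ HomotopyCategory.Plus.ι B ⋙
    HomotopyCategory.homologyFunctor B (ComplexShape.up ℤ) 0

/-- The values on complexes of injectives. -/
def rGInjIso (L : CochainComplex.Plus (InjectiveObject A)) (n : ℤ) :
    ((rG S).shift n).obj (injObj L) ≅
      (((InjectiveObject.ι A ⋙ S).mapHomologicalComplex (ComplexShape.up ℤ)).obj L.obj).homology n :=
  (HomotopyCategory.homologyFunctor B (ComplexShape.up ℤ) n).mapIso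
    ((HomotopyCategory.Plus.ι B).mapIso ((mapInj S).mapIso
      ((injToPlus A).asEquivalence.unitIso.app
        ((HomotopyCategory.Plus.quotient _).obj L)).symm)) ≪≫
    (HomotopyCategory.homologyFunctorFactors B (ComplexShape.up ℤ) n).app _

theorem isZero_rG_of_isGE (Z : DerivedCategory.Plus A) (m n : ℤ) [Z.IsGE m] (h : n < m) :
    IsZero (((rG S).shift n).obj Z) := by
  obtain ⟨L, hL, ⟨e⟩⟩ := DerivedCategory.Plus.exists_injective_nonempty_iso Z m
  refine IsZero.of_iso ?_ (((rG S).shift n).mapIso e.symm ≪≫ rGInjIso S L n)
  rw [← HomologicalComplex.exactAt_iff_isZero_homology]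
  exact ShortComplex.exact_of_isZero_X₂ _
    ((InjectiveObject.ι A ⋙ S).map_isZero (CochainComplex.isZero_of_isStrictlyGE L.obj m n h))

omit [HasDerivedCategory.{w} A] [EnoughInjectives A] in
/-- The lift of an injective resolution to a complex of injective objects. -/
abbrev resolutionLift {M : A} (R : InjectiveResolution M) : CochainComplex.Plus (InjectiveObject A) :=
  ⟨HomologicalComplex.liftObjectProperty _ R.cochainComplex (fun n => inferInstanceAs
      (Injective (R.cochainComplex.X n))), 0, by
    rw [← CochainComplex.isStrictlyGE_mapHomologicalComplex_obj_iff _ (InjectiveObject.ι A)]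
    exact inferInstanceAs (R.cochainComplex.IsStrictlyGE 0)⟩

omit [EnoughInjectives A] in
theorem isIso_Q_map_ι' {M : A} (R : InjectiveResolution M) : IsIso (DerivedCategory.Q.map R.ι') :=
  (DerivedCategory.isIso_Q_map_iff_quasiIso _ R.ι').2 inferInstance

omit [EnoughInjectives A] in
/-- An injective resolution, in the derived category. -/
def singleResolutionIso {M : A} (R : InjectiveResolution M) :
    (DerivedCategory.Plus.singleFunctor A 0).obj M ≅ injObj (resolutionLift R) :=
  DerivedCategory.Plus.ι.preimageIso
    ((DerivedCategory.singleFunctorIsoCompQ A 0).app M ≪≫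
      @asIso _ _ _ _ (DerivedCategory.Q.map R.ι') (isIso_Q_map_ι' R))

theorem nonempty_rG_single_iso (M : A) (p : ℕ) :
    Nonempty (((rG S).shift (p : ℤ)).obj ((DerivedCategory.Plus.singleFunctor A 0).obj M) ≅
      (S.rightDerived p).obj M) := by
  let R := InjectiveResolution.of M
  exact ⟨((rG S).shift (p : ℤ)).mapIso (singleResolutionIso R) ≪≫ rGInjIso S _ _ ≪≫
    (HomologicalComplex.homologyFunctor B _ (p : ℤ)).mapIso
      (mapExtendIso S R.cocomplex ComplexShape.embeddingUpNat) ≪≫
    ((S.mapHomologicalComplex _).obj R.cocomplex).extendHomologyIso ComplexShape.embeddingUpNat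
      (j := p) rfl ≪≫
    (R.isoRightDerivedObj S p).symm⟩

theorem isZero_rG_single_of_neg (M : A) (p : ℤ) (hp : p < 0) :
    IsZero (((rG S).shift p).obj ((DerivedCategory.Plus.singleFunctor A 0).obj M)) :=
  isZero_rG_of_isGE S _ 0 p hp

/-- The values on objects in a single degree. -/
theorem nonempty_rG_singleShift_iso (M : A) (q p n : ℤ) (h : p + q = n) :
    Nonempty (((rG S).shift n).obj ((DerivedCategory.Plus.singleFunctor A q).obj M) ≅
      ((rG S).shift p).obj ((DerivedCategory.Plus.singleFunctor A 0).obj M)) :=
  ⟨((rG S).shift n).mapIso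
      (((DerivedCategory.Plus.singleFunctors A).shiftIso (-q) q 0 (by lia)).app M).symm ≪≫
    ((rG S).shiftIso (-q) n p (by lia)).app _⟩

end Groth.Agent.SpSeqLib
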