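import Groth.Agent.KFlat.Exact

/-!
# The long exact sequence of derived functors of a short exact sequence of functors on injectives
-/

set_option linter.style.haveILetI false
set_option linter.unusedSectionVars false

universe v₁ v₂ u₁ u₂

open CategoryTheory Limits

noncomputable section

namespace Groth.Agent.SpSeqLib

variable {A : Type u₁} [Category.{v₁} A] [Abelian A] [HasInjectiveResolutions A]
  {B : Type u₂} [Category.{v₂} B] [Abelian B] {F G H : A ⥤ B} [F.Additive] [G.Additive] [H.Additive]
  (α : F ⟶ G) (β : G ⟶ H) (w : ∀ X, α.app X ≫ β.app X = 0)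
  (hex : ∀ I : A, Injective I → (ShortComplex.mk (α.app I) (β.app I) (w I)).ShortExact)

/-- The sequence of complexes. -/
def seqCx (K : CochainComplex A ℕ) : ShortComplex (CochainComplex B ℕ) :=
  ShortComplex.mk ((NatTrans.mapHomologicalComplex α _).app K)
    ((NatTrans.mapHomologicalComplex β _).app K) (by
      ext n
      exact w (K.X n))

include hex in
theorem shortExact_seqCx {X : A} (I : InjectiveResolution X) :
    (seqCx α β w I.cocomplex).ShortExact :=
  HomologicalComplex.shortExact_of_degreewise_shortExact _ fun n =>
    hex (I.cocomplex.X n) (I.injective n)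

/-- The connecting morphism. -/
def derivedδ (q : ℕ) : H.rightDerived q ⟶ F.rightDerived (q + 1) where
  app X := ((injectiveResolution X).isoRightDerivedObj H q).hom ≫
    (shortExact_seqCx α β w hex (injectiveResolution X)).δ q (q + 1) rfl ≫
      ((injectiveResolution X).isoRightDerivedObj F (q + 1)).inv
  naturality {X Y} f := by
    let φ := InjectiveResolution.desc f (injectiveResolution Y) (injectiveResolution X)
    have hφ : (injectiveResolution X).ι.f 0 ≫ φ.f 0 = f ≫ (injectiveResolution Y).ι.f 0 :=
      InjectiveResolution.desc_commutes_zero f _ _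
    have h1 := InjectiveResolution.isoRightDerivedObj_hom_naturality f _ _ φ hφ H q
    have h2 := InjectiveResolution.isoRightDerivedObj_inv_naturality f _ _ φ hφ F (q + 1)
    let m : seqCx α β w (injectiveResolution X).cocomplex ⟶
        seqCx α β w (injectiveResolution Y).cocomplex :=
      ShortComplex.homMk ((F.mapHomologicalComplex _).map φ) ((G.mapHomologicalComplex _).map φ)
        ((H.mapHomologicalComplex _).map φ)
        ((NatTrans.mapHomologicalComplex α _).naturality φ)
        ((NatTrans.mapHomologicalComplex β _).naturality φ)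
    have h3 := HomologicalComplex.HomologySequence.δ_naturality m
      (shortExact_seqCx α β w hex (injectiveResolution X))
      (shortExact_seqCx α β w hex (injectiveResolution Y)) q (q + 1) rfl
    refine (Category.assoc _ _ _).symm.trans ((congrArg (· ≫ _) h1).trans
      ((Category.assoc _ _ _).trans ?_))
    refine Eq.trans (congrArg _ ?_) (Category.assoc _ _ _).symm
    refine (Category.assoc _ _ _).symm.trans ((congrArg (· ≫ _) h3.symm).trans
      ((Category.assoc _ _ _).trans ?_))
    exact (congrArg _ h2.symm).trans (Category.assoc _ _ _).symm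

theorem rightDerived_comp_derivedδ (q : ℕ) (X : A) :
    (NatTrans.rightDerived β q).app X ≫ (derivedδ α β w hex q).app X = 0 := by
  rw [InjectiveResolution.rightDerived_app_eq β (injectiveResolution X) q]
  simp only [derivedδ, Category.assoc, Iso.inv_hom_id_assoc]
  exact (congrArg (_ ≫ ·) ((Category.assoc _ _ _).symm.trans ((congrArg (· ≫ _)
    ((shortExact_seqCx α β w hex (injectiveResolution X)).comp_δ q (q + 1) rfl)).trans
      zero_comp))).trans comp_zero

theorem exact_derivedδ (q : ℕ) (X : A) :
    (ShortComplex.mk _ _ (rightDerived_comp_derivedδ α β w hex q X)).Exact := by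
  refine ShortComplex.exact_of_iso ?_
    ((shortExact_seqCx α β w hex (injectiveResolution X)).homology_exact₃ q (q + 1) rfl)
  refine ShortComplex.isoMk ((injectiveResolution X).isoRightDerivedObj G q).symm
    ((injectiveResolution X).isoRightDerivedObj H q).symm
    ((injectiveResolution X).isoRightDerivedObj F (q + 1)).symm ?_ ?_
  · show _ ≫ (NatTrans.rightDerived β q).app X = _
    exact (congrArg (_ ≫ ·)
      (InjectiveResolution.rightDerived_app_eq β (injectiveResolution X) q)).trans
        (Iso.inv_hom_id_assoc _ _)
  · exact Iso.inv_hom_id_assoc _ _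

variable (hG : ∀ (q : ℕ) (X : A), IsZero ((G.rightDerived (q + 1)).obj X))

include hG in
theorem epi_derivedδ (q : ℕ) (X : A) : Epi ((derivedδ α β w hex q).app X) := by
  have hδ : Epi ((shortExact_seqCx α β w hex (injectiveResolution X)).δ q (q + 1) rfl) :=
    ((shortExact_seqCx α β w hex (injectiveResolution X)).homology_exact₁ q (q + 1) rfl).epi_f
      (((hG q X).of_iso ((injectiveResolution X).isoRightDerivedObj G (q + 1)).symm).eq_of_tgt _ _)
  exact @epi_comp _ _ _ _ _ _ inferInstance _ (@epi_comp _ _ _ _ _ _ hδ _ inferInstance)

include hG in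
theorem isIso_derivedδ (q : ℕ) : IsIso (derivedδ α β w hex (q + 1)) := by
  haveI : ∀ X, IsIso ((derivedδ α β w hex (q + 1)).app X) := fun X => by
    haveI := epi_derivedδ α β w hex hG (q + 1) X
    haveI : Mono ((derivedδ α β w hex (q + 1)).app X) :=
      (exact_derivedδ α β w hex (q + 1) X).mono_g ((hG q X).eq_of_src _ _)
    exact isIso_of_mono_of_epi _
  exact NatIso.isIso_of_isIso_app _

theorem toRightDerivedZero_natural (X : A) :
    β.app X ≫ H.toRightDerivedZero.app X =
      G.toRightDerivedZero.app X ≫ (NatTrans.rightDerived β 0).app X := by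
  let P := injectiveResolution X
  let b := (NatTrans.mapHomologicalComplex β (ComplexShape.up ℕ)).app P.cocomplex
  have h1 : β.app X ≫ P.toRightDerivedZero' H =
      P.toRightDerivedZero' G ≫ HomologicalComplex.cyclesMap b 0 := by
    rw [← cancel_mono (HomologicalComplex.iCycles _ _), Category.assoc, Category.assoc,
      InjectiveResolution.toRightDerivedZero'_comp_iCycles, HomologicalComplex.cyclesMap_i,
      InjectiveResolution.toRightDerivedZero'_comp_iCycles_assoc]
    exact (β.naturality (P.ι.f 0)).symm
  have h2 : (CochainComplex.isoHomologyπ₀ ((G.mapHomologicalComplex _).obj P.cocomplex)).hom ≫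
      HomologicalComplex.homologyMap b 0 =
      HomologicalComplex.cyclesMap b 0 ≫
        (CochainComplex.isoHomologyπ₀ ((H.mapHomologicalComplex _).obj P.cocomplex)).hom :=
    HomologicalComplex.homologyπ_naturality b 0
  rw [InjectiveResolution.rightDerived_app_eq β P 0, P.toRightDerivedZero_eq G,
    P.toRightDerivedZero_eq H]
  simp only [Category.assoc, Iso.inv_hom_id_assoc]
  rw [reassoc_of% h1]
  exact congrArg _ ((Category.assoc _ _ _).symm.trans ((congrArg (· ≫ _) h2.symm).trans
    ((Category.assoc _ _ _).trans (congrArg _ (Iso.inv_hom_id_assoc _ _).symm))))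

/-- The map to the first derived functor. -/
def toDerivedOne : H ⟶ F.rightDerived 1 := H.toRightDerivedZero ≫ derivedδ α β w hex 0

theorem comp_toDerivedOne (X : A) : β.app X ≫ (toDerivedOne α β w hex).app X = 0 := by
  simp only [toDerivedOne, NatTrans.comp_app]
  rw [← Category.assoc, toRightDerivedZero_natural, Category.assoc, rightDerived_comp_derivedδ,
    comp_zero]

include α w hex hG in
/-- The first derived functor is a cokernel. -/
theorem nonempty_derivedOne_iso [PreservesFiniteLimits G] [PreservesFiniteLimits H] :
    Nonempty (F.rightDerived 1 ≅ cokernel β) := by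
  haveI : ∀ X, Epi ((toDerivedOne α β w hex).app X) := fun X => by
    haveI := epi_derivedδ α β w hex hG 0 X
    simp only [toDerivedOne, NatTrans.comp_app]
    infer_instance
  haveI : Epi (toDerivedOne α β w hex) := NatTrans.epi_of_epi_app _
  let S : ShortComplex (A ⥤ B) := ShortComplex.mk β (toDerivedOne α β w hex) (by
    ext X
    exact comp_toDerivedOne α β w hex X)
  have hS : S.Exact := Groth.Agent.KFlat.exact_of_pointwise S fun X => by
    refine ShortComplex.exact_of_iso ?_ (exact_derivedδ α β w hex 0 X)
    refine ShortComplex.isoMk (asIso (G.toRightDerivedZero.app X)).symm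
      (asIso (H.toRightDerivedZero.app X)).symm (Iso.refl _) ?_ ?_
    · show inv _ ≫ β.app X = _ ≫ inv _
      rw [IsIso.inv_comp_eq, ← Category.assoc, IsIso.eq_comp_inv]
      exact toRightDerivedZero_natural β X
    · show inv _ ≫ (toDerivedOne α β w hex).app X = _ ≫ 𝟙 _
      rw [Category.comp_id, IsIso.inv_comp_eq]
      rfl
  haveI : Epi S.g := inferInstanceAs (Epi (toDerivedOne α β w hex))
  exact ⟨IsColimit.coconePointUniqueUpToIso hS.gIsCokernel (colimit.isColimit _)⟩

end Groth.Agent.SpSeqLib
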