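import Groth.Agent.SpSeqLib.Convergence
import Mathlib.CategoryTheory.Triangulated.HomologicalFunctor
import Mathlib.CategoryTheory.Triangulated.TStructure.SpectralObject

/-!
# Spectral sequences of truncations

A homological functor applied to the spectral object of truncations of an object which is `≥ 0` for a
t-structure gives a first quadrant spectral object.
-/

set_option linter.style.haveILetI false

universe v v' u u'

open CategoryTheory Limits ComposableArrows Pretriangulated Triangulated

noncomputable section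

namespace Groth.Agent.SpSeqLib

variable {D : Type u} [Category.{v} D] [Preadditive D] [HasZeroObject D] [HasShift D ℤ]
  [∀ (n : ℤ), (shiftFunctor D n).Additive] [Pretriangulated D]
  {A : Type u'} [Category.{v'} A] [Abelian A]

/-- The image of a spectral object by a homological functor. -/
def mapHomological {ι : Type*} [Category ι] (X : SpectralObject D ι) (F : D ⥤ A) [F.IsHomological]
    [F.ShiftSequence ℤ] : Abelian.SpectralObject A ι where
  H n := X.ω₁ ⋙ F.shift n
  δ' n₀ n₁ h :=
    { app := fun E => F.homologySequenceδ (X.ω₂.obj E) n₀ n₁ h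
      naturality := fun E E' φ => F.homologySequenceδ_naturality _ _ (X.ω₂.map φ) n₀ n₁ h }
  exact₁' n₀ n₁ h E :=
    (F.homologySequence_exact₁ _ (X.ω₂_obj_distinguished E) n₀ n₁ h).exact_toComposableArrows
  exact₂' n E :=
    (F.homologySequence_exact₂ _ (X.ω₂_obj_distinguished E) n).exact_toComposableArrows
  exact₃' n₀ n₁ h E :=
    (F.homologySequence_exact₃ _ (X.ω₂_obj_distinguished E) n₀ n₁ h).exact_toComposableArrows

variable [IsTriangulated D] (t : TStructure D) (F : D ⥤ A) [F.IsHomological] [F.ShiftSequence ℤ]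

/-- The spectral object of the values of `F` on the truncations. -/
abbrev truncSO (X : D) : Abelian.SpectralObject A EInt := mapHomological (t.spectralObject X) F

/-- `F` vanishes below `m` on objects which are `≥ m`. -/
def VanishesBelow : Prop :=
  ∀ (Z : D) (m n : ℤ), t.IsGE Z m → n < m → IsZero ((F.shift n).obj Z)

/-- `F` vanishes above `m` on objects which are `≤ m`. -/
def VanishesAbove : Prop :=
  ∀ (Z : D) (m n : ℤ), t.IsLE Z m → m < n → IsZero ((F.shift n).obj Z)

variable {t F}

theorem isFirstQuadrant_truncSO (hF : VanishesBelow t F) (X : D) [t.IsGE X 0] :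
    (truncSO t F X).IsFirstQuadrant := by
  constructor
  · intro i j hij hj n
    exact (F.shift n).map_isZero
      ((t.eTruncGE.obj i).map_isZero (t.isZero_eTruncLT_obj_obj X 0 j hj))
  · intro i j hij n hi
    induction i using WithBotTop.rec with
    | bot => exact absurd hi not_lt_bot
    | coe i =>
      exact hF _ i n (t.isGE_eTruncGE_obj_obj i _ le_rfl _) (WithBotTop.coe_lt_coe.1 hi)
    | top => exact (F.shift n).map_isZero (Functor.zero_obj _)

/-- The object `ω(q ≤ q + 1)`. -/
abbrev omegaSucc (t : TStructure D) (X : D) (q : ℤ) : D :=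
  (t.eTruncGE.obj (q : EInt)).obj ((t.eTruncLT.obj ((q + 1 : ℤ) : EInt)).obj X)

instance isGE_omegaSucc (X : D) (q : ℤ) : t.IsGE (omegaSucc t X q) q :=
  t.isGE_eTruncGE_obj_obj q _ le_rfl _

instance isLE_omegaSucc (X : D) (q : ℤ) : t.IsLE (omegaSucc t X q) q := by
  haveI : t.IsLE ((t.eTruncLT.obj ((q + 1 : ℤ) : EInt)).obj X) q :=
    t.isLE_eTruncLT_obj_obj q _ le_rfl X
  exact (inferInstance :
    t.IsLE ((t.truncGE q).obj ((t.eTruncLT.obj ((q + 1 : ℤ) : EInt)).obj X)) q)

/-- Homology in degree `q` only sees `ω(q ≤ q + 1)`. -/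
theorem nonempty_shift_omegaSucc_iso (hge : VanishesBelow t F) (hle : VanishesAbove t F) (X : D)
    (q : ℤ) : Nonempty ((F.shift q).obj (omegaSucc t X q) ≅ (F.shift q).obj X) := by
  let Y := (t.truncLT (q + 1)).obj X
  haveI h₁ : IsIso ((F.shift q).map ((t.truncGEπ q).app Y)) := by
    have hT := t.triangleLTGE_distinguished q Y
    have hle' : t.IsLE ((t.truncLT q).obj Y) (q - 1) := inferInstanceAs
      (t.IsLE ((t.triangleLTGE q).obj Y).obj₁ (q - 1))
    haveI : Epi ((F.shift q).map ((t.triangleLTGE q).obj Y).mor₂) :=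
      (F.homologySequence_exact₃ _ hT q (q + 1) rfl).epi_f
        ((hle _ (q - 1) (q + 1) hle' (by lia)).eq_of_tgt _ _)
    haveI : Mono ((F.shift q).map ((t.triangleLTGE q).obj Y).mor₂) :=
      (F.homologySequence_exact₂ _ hT q).mono_g ((hle _ (q - 1) q hle' (by lia)).eq_of_src _ _)
    exact isIso_of_mono_of_epi ((F.shift q).map ((t.triangleLTGE q).obj Y).mor₂)
  haveI h₂ : IsIso ((F.shift q).map ((t.truncLTι (q + 1)).app X)) := by
    have hT := t.triangleLTGE_distinguished (q + 1) X
    have hge' : t.IsGE ((t.truncGE (q + 1)).obj X) (q + 1) := inferInstanceAs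
      (t.IsGE ((t.triangleLTGE (q + 1)).obj X).obj₃ (q + 1))
    haveI : Epi ((F.shift q).map ((t.triangleLTGE (q + 1)).obj X).mor₁) :=
      (F.homologySequence_exact₂ _ hT q).epi_f ((hge _ (q + 1) q hge' (by lia)).eq_of_tgt _ _)
    haveI : Mono ((F.shift q).map ((t.triangleLTGE (q + 1)).obj X).mor₁) :=
      (F.homologySequence_exact₁ _ hT (q - 1) q (by lia)).mono_g
        ((hge _ (q + 1) (q - 1) hge' (by lia)).eq_of_src _ _)
    exact isIso_of_mono_of_epi ((F.shift q).map ((t.triangleLTGE (q + 1)).obj X).mor₁)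
  exact ⟨(asIso ((F.shift q).map ((t.truncGEπ q).app Y))).symm ≪≫
    asIso ((F.shift q).map ((t.truncLTι (q + 1)).app X))⟩

/-- The spectral sequence of the truncations of an object which is `≥ 0`. -/
theorem exists_truncSpectralSequence (hF : VanishesBelow t F) (X : D) [t.IsGE X 0] {H : ℤ → A}
    (e : ∀ n, Nonempty ((F.shift n).obj X ≅ H n)) (P : ℤ → ℤ → A)
    (e₂ : ∀ p q, Nonempty ((F.shift (p + q)).obj (omegaSucc t X q) ≅ P p q)) :
    ∃ (E : E₂CohomologicalSpectralSequence A) (a : SpSeq.Abutment E H),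
      (∀ n, a.IsFinite n) ∧ SpSeq.IsBounded E ∧
      ∀ p q : ℤ, Nonempty ((E.page 2 le_rfl).X (p, q) ≅ P p q) := by
  haveI := isFirstQuadrant_truncSO hF X
  exact exists_spectralSequence (truncSO t F X) (fun n => (e n).some) P e₂

end Groth.Agent.SpSeqLib
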