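import Groth.Prelude.Def_SpSeq
import Mathlib.Algebra.Homology.SpectralObject.SpectralSequence
import Mathlib.Algebra.Homology.SpectralObject.FirstPage
import Mathlib.Data.Set.Finite.Basic
import Mathlib.Data.Int.Interval
import Mathlib.CategoryTheory.Abelian.Refinements
import Mathlib.Tactic.Abel

/-!
# Convergence of the spectral sequence of a first quadrant spectral object

A first quadrant spectral object `Y` indexed by `EInt` gives an `E₂` spectral sequence which abuts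
to `Y.H n (⊥ ≤ ⊤)` with finite filtrations.
-/

set_option linter.style.haveILetI false

universe v u

open CategoryTheory Limits ComposableArrows Abelian

noncomputable section

namespace Groth.Agent.SpSeqLib

variable {C : Type u} [Category.{v} C] [Abelian C]

theorem imageSubobject_le_of_fac {X Y Z : C} {f : X ⟶ Z} {g : Y ⟶ Z} (k : X ⟶ Y) (w : k ≫ g = f) :
    imageSubobject f ≤ imageSubobject g := by
  subst w
  exact imageSubobject_comp_le k g

/-- A subquotient of two images as a cokernel. -/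
theorem nonempty_iso_subquot {A K X H : C} (f : X ⟶ H) (a : A ⟶ X) (k : K ⟶ X) (w : k ≫ f = 0)
    (hk : (ShortComplex.mk k f w).Exact) (h : imageSubobject (a ≫ f) ≤ imageSubobject f)
    {Q : C} {π : X ⟶ Q} (wπ : biprod.desc a k ≫ π = 0) [Epi π]
    (hπ : (ShortComplex.mk _ _ wπ).Exact) :
    Nonempty (Q ≅ SpSeq.subquot (imageSubobject f) (imageSubobject (a ≫ f)) h) := by
  let i := Subobject.ofLE _ _ h
  let ρ : X ⟶ cokernel i :=
    factorThruImageSubobject f ≫ cokernel.π i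
  have ha : a ≫ factorThruImageSubobject f = factorThruImageSubobject (a ≫ f) ≫ i := by
    rw [← cancel_mono (imageSubobject f).arrow, Category.assoc, Category.assoc,
      imageSubobject_arrow_comp, Subobject.ofLE_arrow, imageSubobject_arrow_comp]
  have hk0 : k ≫ factorThruImageSubobject f = 0 := by
    rw [← cancel_mono (imageSubobject f).arrow, Category.assoc, imageSubobject_arrow_comp, w,
      zero_comp]
  have wρ : biprod.desc a k ≫ ρ = 0 := by
    apply biprod.hom_ext'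
    · rw [biprod.inl_desc_assoc, comp_zero, ← Category.assoc, ha, Category.assoc,
        cokernel.condition, comp_zero]
    · rw [biprod.inr_desc_assoc, comp_zero, ← Category.assoc, hk0, zero_comp]
  haveI : Epi ρ := epi_comp _ _
  have hρ : (ShortComplex.mk _ _ wρ).Exact := by
    rw [ShortComplex.exact_iff_exact_up_to_refinements]
    intro W x hx
    dsimp at x hx
    obtain ⟨W₁, p₁, hp₁, y, hy⟩ := (ShortComplex.exact_cokernel i).exact_up_to_refinements (x ≫ factorThruImageSubobject f)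
        ((Category.assoc x (factorThruImageSubobject f) (cokernel.π i)).trans hx)
    dsimp at y hy
    obtain ⟨W₂, p₂, hp₂, z, hz⟩ :=
      surjective_up_to_refinements_of_epi (factorThruImageSubobject (a ≫ f)) y
    have h0 : (p₂ ≫ p₁ ≫ x - z ≫ a) ≫ f = 0 := by
      rw [Preadditive.sub_comp, sub_eq_zero, ← imageSubobject_arrow_comp f]
      calc (p₂ ≫ p₁ ≫ x) ≫ factorThruImageSubobject f ≫ (imageSubobject f).arrow
          = p₂ ≫ (p₁ ≫ x ≫ factorThruImageSubobject f) ≫ (imageSubobject f).arrow := by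
            simp only [Category.assoc]
        _ = p₂ ≫ (y ≫ i) ≫ (imageSubobject f).arrow := by rw [hy]
        _ = (p₂ ≫ y) ≫ i ≫ (imageSubobject f).arrow := by simp only [Category.assoc]
        _ = (z ≫ factorThruImageSubobject (a ≫ f)) ≫ i ≫ (imageSubobject f).arrow := by rw [hz]
        _ = z ≫ (factorThruImageSubobject (a ≫ f) ≫ i) ≫ (imageSubobject f).arrow := by
            simp only [Category.assoc]
        _ = z ≫ (a ≫ factorThruImageSubobject f) ≫ (imageSubobject f).arrow := by rw [ha]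
        _ = (z ≫ a) ≫ factorThruImageSubobject f ≫ (imageSubobject f).arrow := by
            simp only [Category.assoc]
    obtain ⟨W₃, p₃, hp₃, v, hv⟩ := hk.exact_up_to_refinements _ h0
    dsimp at v hv
    refine ⟨W₃, p₃ ≫ p₂ ≫ p₁, inferInstance, biprod.lift (p₃ ≫ z) v, ?_⟩
    dsimp
    rw [biprod.lift_desc, Category.assoc p₃ z a, ← hv, Preadditive.comp_sub, Category.assoc,
      Category.assoc]
    abel
  exact ⟨hπ.gIsCokernel.coconePointUniqueUpToIso hρ.gIsCokernel⟩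

variable (Y : SpectralObject C EInt)

/-- The map `H^n(⊥ ≤ b) ⟶ H^n(⊥ ≤ ⊤)`. -/
abbrev toTot (n : ℤ) (b : EInt) :
    (Y.H n).obj (mk₁ (homOfLE (bot_le : (⊥ : EInt) ≤ b))) ⟶
      (Y.H n).obj (mk₁ (homOfLE (bot_le : (⊥ : EInt) ≤ ⊤))) :=
  (Y.H n).map (twoδ₂Toδ₁' (⊥ : EInt) b ⊤ bot_le le_top)

theorem toTot_fac (n : ℤ) {a b : EInt} (hab : a ≤ b) :
    (Y.H n).map (twoδ₂Toδ₁' (⊥ : EInt) a b bot_le hab) ≫ toTot Y n b = toTot Y n a := by
  rw [← Functor.map_comp]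
  congr 1

variable [Y.IsFirstQuadrant] {H : ℤ → C}
  (e : ∀ n, (Y.H n).obj (mk₁ (homOfLE (bot_le : (⊥ : EInt) ≤ ⊤))) ≅ H n)

/-- The filtration on the abutment. -/
def totFil (n p : ℤ) : Subobject (H n) :=
  imageSubobject (toTot Y n ((n - p + 1 : ℤ) : EInt) ≫ (e n).hom)

omit [Y.IsFirstQuadrant] in
theorem totFil_anti (n : ℤ) : Antitone (totFil Y e n) := fun p p' hp =>
  imageSubobject_le_of_fac
    ((Y.H n).map (twoδ₂Toδ₁' (⊥ : EInt) _ _ bot_le (WithBotTop.coe_le_coe.2 (by lia))))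
    (by rw [← Category.assoc, toTot_fac])

theorem totFil_eq_bot (n : ℤ) : totFil Y e n (n + 1) = ⊥ := by
  have h : IsZero ((Y.H n).obj (mk₁ (homOfLE (bot_le : (⊥ : EInt) ≤ ((n - (n + 1) + 1 : ℤ) : EInt))))) :=
    Y.isZero₁_of_isFirstQuadrant _ _ _ (WithBotTop.coe_le_coe.2 (by lia)) n
  have e0 : toTot Y n ((n - (n + 1) + 1 : ℤ) : EInt) ≫ (e n).hom = 0 := h.eq_of_src _ _
  simp only [totFil, e0, imageSubobject_zero]

theorem totFil_eq_top (n : ℤ) : totFil Y e n 0 = ⊤ := by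
  haveI : Epi (toTot Y n ((n - 0 + 1 : ℤ) : EInt)) :=
    (Y.exact₂ _ _ _ rfl n).epi_f ((Y.isZero₂_of_isFirstQuadrant _ _ le_top n
      (WithBotTop.coe_lt_coe.2 (by lia))).eq_of_tgt _ _)
  haveI : Epi (toTot Y n ((n - 0 + 1 : ℤ) : EInt) ≫ (e n).hom) := epi_comp _ _
  haveI : Epi (totFil Y e n 0).arrow := epi_of_epi_fac (imageSubobject_arrow_comp _)
  haveI : IsIso (totFil Y e n 0).arrow := isIso_of_mono_of_epi _
  exact Subobject.eq_top_of_isIso_arrow _

theorem isZero_H_of_neg (p q : ℤ) (h : p < 0 ∨ q < 0) :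
    IsZero ((Y.H (p + q)).obj
      (mk₁ (homOfLE (WithBotTop.coe_le_coe.2 (show q ≤ q + 1 by lia))))) := by
  rcases h with h | h
  · exact Y.isZero₂_of_isFirstQuadrant _ _ _ _ (WithBotTop.coe_lt_coe.2 (by lia))
  · exact Y.isZero₁_of_isFirstQuadrant _ _ _ (WithBotTop.coe_le_coe.2 (by lia)) _

theorem isZero_page_of_neg (r : ℤ) (hr : 2 ≤ r) (p q : ℤ) (h : p < 0 ∨ q < 0) :
    IsZero ((Y.E₂SpectralSequence.page r hr).X (p, q)) :=
  Y.isZero_spectralSequence_page_X_of_isZero_H' _ r hr (p, q) (isZero_H_of_neg Y p q h)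

/-- A page from which position `pq` is stationary. -/
abbrev stRank (pq : ℤ × ℤ) : ℤ := max 2 (max (pq.1 + 3) (pq.2 + 2))

theorem stationaryAt (pq : ℤ × ℤ) :
    SpSeq.StationaryAt Y.E₂SpectralSequence pq (stRank pq) := by
  refine ⟨le_max_left _ _, fun r h₀ hr => ⟨?_, ?_⟩⟩
  · refine (isZero_page_of_neg Y r h₀ _ _ (Or.inl ?_)).eq_of_src _ _
    show pq.1 - r < 0
    lia
  · refine (isZero_page_of_neg Y r h₀ _ _ (Or.inr ?_)).eq_of_tgt _ _
    show pq.2 + (1 - r) < 0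
    lia

/-- The limit term. -/
theorem nonempty_pageIso (pq : ℤ × ℤ) :
    Nonempty ((Y.E₂SpectralSequence.page (stRank pq) (le_max_left _ _)).X pq ≅
      Y.E (homOfLE (bot_le : (⊥ : EInt) ≤ (pq.2 : EInt)))
        (homOfLE (WithBotTop.coe_le_coe.2 (show pq.2 ≤ pq.2 + 1 by lia)))
        (homOfLE (le_top : ((pq.2 + 1 : ℤ) : EInt) ≤ ⊤))
        (pq.1 + pq.2 - 1) (pq.1 + pq.2) (pq.1 + pq.2 + 1)) := by
  set r := stRank pq
  have hr : (2 : ℤ) ≤ r := le_max_left _ _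
  have h₁ : ((pq.2 - r + 2 : ℤ) : EInt) ≤ pq.2 := WithBotTop.coe_le_coe.2 (by lia)
  have h₂ : (pq.2 : EInt) ≤ ((pq.2 + 1 : ℤ) : EInt) := WithBotTop.coe_le_coe.2 (by lia)
  have h₃ : ((pq.2 + 1 : ℤ) : EInt) ≤ ((pq.2 + r - 1 : ℤ) : EInt) := WithBotTop.coe_le_coe.2 (by lia)
  exact ⟨Y.spectralSequencePageXIso SpectralObject.coreE₂Cohomological r hr pq
      ((pq.2 - r + 2 : ℤ) : EInt) (pq.2 : EInt) ((pq.2 + 1 : ℤ) : EInt) ((pq.2 + r - 1 : ℤ) : EInt)
      rfl rfl rfl rfl (pq.1 + pq.2 - 1) (pq.1 + pq.2) (pq.1 + pq.2 + 1) rfl ≪≫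
    (Y.isoMapFourδ₁Toδ₀' ⊥ _ _ _ _ bot_le h₁ h₂ h₃ (pq.1 + pq.2 - 1) (pq.1 + pq.2)
      (pq.1 + pq.2 + 1)
      (Y.isZero₁_of_isFirstQuadrant _ _ _ (WithBotTop.coe_le_coe.2 (by lia)) _)).symm ≪≫
    Y.isoMapFourδ₄Toδ₃' ⊥ _ _ _ ⊤ bot_le h₂ h₃ le_top (pq.1 + pq.2 - 1) (pq.1 + pq.2)
      (pq.1 + pq.2 + 1)
      (Y.isZero₂_of_isFirstQuadrant _ _ _ _ (WithBotTop.coe_lt_coe.2 (by lia)))⟩

omit [Y.IsFirstQuadrant] in
theorem nonempty_grIso (p q : ℤ) :
    Nonempty (Y.E (homOfLE (bot_le : (⊥ : EInt) ≤ (q : EInt)))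
        (homOfLE (WithBotTop.coe_le_coe.2 (show q ≤ q + 1 by lia)))
        (homOfLE (le_top : ((q + 1 : ℤ) : EInt) ≤ ⊤)) (p + q - 1) (p + q) (p + q + 1) ≅
      SpSeq.grPiece (totFil Y e (p + q)) (totFil_anti Y e (p + q)) p) := by
  obtain ⟨n, hn⟩ : ∃ n, n = p + q := ⟨_, rfl⟩
  rw! [← hn]
  obtain rfl : q = n - p := by lia
  have h₂ : ((n - p : ℤ) : EInt) ≤ ((n - p + 1 : ℤ) : EInt) := WithBotTop.coe_le_coe.2 (by lia)
  let f := toTot Y n ((n - p + 1 : ℤ) : EInt) ≫ (e n).hom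
  let a := (Y.H n).map (twoδ₂Toδ₁' (⊥ : EInt) ((n - p : ℤ) : EInt) _ bot_le h₂)
  let k := Y.δ (homOfLE (bot_le : (⊥ : EInt) ≤ ((n - p + 1 : ℤ) : EInt)))
    (homOfLE (le_top : ((n - p + 1 : ℤ) : EInt) ≤ ⊤)) (n - 1) n
  have w : k ≫ f = 0 := by
    rw [← Category.assoc]
    refine (congrArg (· ≫ (e n).hom) ?_).trans zero_comp
    exact Y.zero₁ _ _ _ rfl (n - 1) n
  have hk : (ShortComplex.mk k f w).Exact := by
    have h1 := Y.exact₁ (homOfLE (bot_le : (⊥ : EInt) ≤ ((n - p + 1 : ℤ) : EInt)))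
      (homOfLE (le_top : ((n - p + 1 : ℤ) : EInt) ≤ ⊤)) (homOfLE (bot_le : (⊥ : EInt) ≤ ⊤)) rfl
      (n - 1) n
    let t : Y.sc₁ (homOfLE (bot_le : (⊥ : EInt) ≤ ((n - p + 1 : ℤ) : EInt)))
        (homOfLE (le_top : ((n - p + 1 : ℤ) : EInt) ≤ ⊤)) (homOfLE (bot_le : (⊥ : EInt) ≤ ⊤)) rfl
        (n - 1) n ≅ ShortComplex.mk k f w :=
      ShortComplex.isoMk (Iso.refl _) (Iso.refl _) (e n)
        ((Category.id_comp _).trans (Category.comp_id _).symm) (Category.id_comp _)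
    exact ShortComplex.exact_of_iso t h1
  have hfil : totFil Y e n (p + 1) = imageSubobject (a ≫ f) := by
    rw [← Category.assoc, toTot_fac]
    exact congrArg (fun z : ℤ => imageSubobject (toTot Y n (z : EInt) ≫ (e n).hom))
      (show n - (p + 1) + 1 = n - p by lia)
  have h : imageSubobject (a ≫ f) ≤ imageSubobject f := imageSubobject_comp_le a f
  let S := Y.cokernelSequenceE (homOfLE (bot_le : (⊥ : EInt) ≤ ((n - p : ℤ) : EInt))) (homOfLE h₂)
    (homOfLE (le_top : ((n - p + 1 : ℤ) : EInt) ≤ ⊤)) (homOfLE bot_le) rfl (n - 1) n (n + 1)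
  haveI : Epi S.g :=
    (inferInstance : Epi (Y.cokernelSequenceE (homOfLE (bot_le : (⊥ : EInt) ≤ ((n - p : ℤ) : EInt)))
      (homOfLE h₂) (homOfLE (le_top : ((n - p + 1 : ℤ) : EInt) ≤ ⊤)) (homOfLE bot_le) rfl (n - 1) n (n + 1)).g)
  obtain ⟨i⟩ := @nonempty_iso_subquot C _ _ _ _ _ _ f a k w hk h _ S.g S.zero ‹Epi S.g›
    (Y.cokernelSequenceE_exact _ _ _ (homOfLE bot_le) rfl (n - 1) n (n + 1))
  refine ⟨i ≪≫ eqToIso ?_⟩
  unfold SpSeq.grPiece
  congr 1
  exact hfil.symm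

/-- The abutment of a first quadrant spectral object. -/
def abutment : SpSeq.Abutment Y.E₂SpectralSequence H where
  fil := totFil Y e
  anti := totFil_anti Y e
  rk := stRank
  stat := stationaryAt Y
  β pq := (nonempty_pageIso Y pq).some ≪≫ (nonempty_grIso Y e pq.1 pq.2).some

theorem abutment_isFinite (n : ℤ) : (abutment Y e).IsFinite n :=
  ⟨⟨0, totFil_eq_top Y e n⟩, ⟨n + 1, totFil_eq_bot Y e n⟩⟩

theorem isBounded_spectralSequence : SpSeq.IsBounded Y.E₂SpectralSequence := fun n => by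
  refine (Set.Finite.subset (Finset.Icc (0 : ℤ) n).finite_toSet) fun p hp => ?_
  by_contra hc
  refine hp (isZero_page_of_neg Y 2 le_rfl p (n - p) ?_)
  simp only [Finset.coe_Icc, Set.mem_Icc, not_and, not_le] at hc
  lia

/-- The second page. -/
def pageTwoIso (p q : ℤ) :
    (Y.E₂SpectralSequence.page 2 le_rfl).X (p, q) ≅
      (Y.H (p + q)).obj (mk₁ (homOfLE (WithBotTop.coe_le_coe.2 (show q ≤ q + 1 by lia)))) :=
  Y.spectralSequenceFirstPageXIso SpectralObject.coreE₂Cohomological (p, q) (q : EInt)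
    ((q + 1 : ℤ) : EInt) rfl rfl (p + q) rfl

include e in
/-- The spectral sequence of a first quadrant spectral object, with its abutment. -/
theorem exists_spectralSequence (P : ℤ → ℤ → C)
    (e₂ : ∀ p q, Nonempty
      ((Y.H (p + q)).obj (mk₁ (homOfLE (WithBotTop.coe_le_coe.2 (show q ≤ q + 1 by lia)))) ≅ P p q)) :
    ∃ (E : E₂CohomologicalSpectralSequence C) (a : SpSeq.Abutment E H),
      (∀ n, a.IsFinite n) ∧ SpSeq.IsBounded E ∧
      ∀ p q : ℤ, Nonempty ((E.page 2 le_rfl).X (p, q) ≅ P p q) :=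
  ⟨_, abutment Y e, abutment_isFinite Y e, isBounded_spectralSequence Y,
    fun p q => ⟨pageTwoIso Y p q ≪≫ (e₂ p q).some⟩⟩

end Groth.Agent.SpSeqLib
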